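import Cfsg.Agent.H56.J4.Setup
import Cfsg.Agent.H45.J4Inv.HGroup
import Cfsg.Agent.S1703

/-!
Elements of the subgroup of order 2^11·244823040 of presented J4 given by a mask and a representative
of a class of the group of the code, with their packed matrices.
-/

set_option autoImplicit false
set_option maxRecDepth 100000

namespace Cfsg.Agent.H99.J4Classes

open Cfsg Cfsg.Agent.H45 Cfsg.Agent.H46.J4Out Cfsg.Agent.H56.J4

/-- the representation is faithful -/
theorem faith : Faithful := faithful S1703.simple

/-- matrix of a letter -/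
def lN (l : ℕ) : ℕ :=
  bif Nat.beq l 0 then J4Rep.xN else bif Nat.beq l 1 then J4Rep.yN else J4Rep.yiN

/-- matrix of a word -/
noncomputable def wN : List ℕ → ℕ
  | [] => J4Mat.oneN 112 112
  | l :: w => J4Mat.mulN 112 (lN l) (wN w)

theorem yi_check : J4Mat.mulN 112 J4Rep.yN J4Rep.yiN = J4Mat.oneN 112 112 := by
  decide +kernel

theorem r_yi : R gy⁻¹ J4Rep.yiN := R.inv R_y yi_check

theorem r_jl (l : ℕ) : R (jl l) (lN l) := by
  unfold jl lN
  cases Nat.beq l 0
  · cases Nat.beq l 1
    · exact r_yi
    · exact R_y
  · exact R_x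

theorem r_word : ∀ w : List ℕ, R (w.map jl).prod (wN w)
  | [] => R_one
  | l :: w => by
    rw [List.map_cons, List.prod_cons]
    exact (r_jl l).mul' (r_word w)

/-- the actions agree when the matrices agree -/
noncomputable def actB (g : ℕ) (M : List ℕ) : Bool :=
  (List.range 11).all fun k =>
    J4Mat.mulN 112 g (eN k) == J4Mat.mulN 112 (thetaN (M.getD k 0)) g

theorem conj_of_actB {g : Cfsg.Spor.J4} {gN : ℕ} (hg : R g gN) {M : List ℕ} (h : actB gN M = true) (n : ℕ) :
    g * theta n * g⁻¹ = theta (applyAux M n 11) :=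
  conj_theta faith hg M h n

/-- element of a word and a mask -/
noncomputable def elt (w : List ℕ) (n : ℕ) : Cfsg.Spor.J4 := theta n * (w.map jl).prod

/-- its matrix -/
noncomputable def eltN (w : List ℕ) (n : ℕ) : ℕ := J4Mat.mulN 112 (thetaN n) (wN w)

theorem r_elt (w : List ℕ) (n : ℕ) : R (elt w n) (eltN w n) := (r_theta n).mul' (r_word w)

theorem theta_inv (v : ℕ) : (theta v)⁻¹ = theta v := by
  refine inv_eq_of_mul_eq_one_left ?_
  rw [← theta_xor faith, Nat.xor_self, theta_zero faith]

/-- conjugation by a mask translates the mask of an element -/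
theorem isConj_shift {w M : List ℕ} (h : actB (wN w) M = true) (v n : ℕ) :
    IsConj (elt w n) (elt w (n ^^^ (v ^^^ applyAux M v 11))) := by
  refine isConj_iff.2 ⟨theta v, ?_⟩
  have hs := conj_of_actB (r_word w) h v
  rw [mul_inv_eq_iff_eq_mul] at hs
  rw [theta_inv]
  simp only [elt, theta_xor faith]
  rw [mul_assoc (theta v), mul_assoc (theta n), hs]
  calc theta v * (theta n * (theta (applyAux M v 11) * (w.map jl).prod))
      = (theta v * theta n) * theta (applyAux M v 11) * (w.map jl).prod := by group
    _ = _ := by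
      rw [← theta_xor faith v n, Nat.xor_comm v n, theta_xor faith]
      group

/-- conjugation by a word commuting with the representative -/
theorem isConj_cent {w c M : List ℕ} (h : actB (wN c) M = true)
    (hc : J4Mat.mulN 112 (wN c) (wN w) = J4Mat.mulN 112 (wN w) (wN c)) (n : ℕ) :
    IsConj (elt w n) (elt w (applyAux M n 11)) := by
  refine isConj_iff.2 ⟨(c.map jl).prod, ?_⟩
  have hcomm := R.eq' faith ((r_word c).mul' (r_word w)) ((r_word w).mul' (r_word c)) hc
  have hn := conj_of_actB (r_word c) h n
  simp only [elt]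
  rw [← hn]
  calc (c.map jl).prod * (theta n * (w.map jl).prod) * ((c.map jl).prod)⁻¹
      = (c.map jl).prod * theta n * (((c.map jl).prod)⁻¹ *
          ((c.map jl).prod * (w.map jl).prod)) * ((c.map jl).prod)⁻¹ := by group
    _ = _ := by rw [hcomm]; group

end Cfsg.Agent.H99.J4Classes
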