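import Mathlib.Data.Nat.Notation

/-!
Generated data: straight line programs in x, y, y⁻¹, t conjugating the representatives of the
2-classes of the subgroup of order 2^11·244823040 onto nine representatives.
-/

set_option autoImplicit false
set_option maxRecDepth 100000

namespace Cfsg.Agent.H99.J4Classes

/-- the nine representatives: class in the group of the code and mask -/
def nine : List (ℕ × ℕ) :=
  [(0, 1), (0, 22), (1, 1), (1, 5), (1, 16), (3, 16),
   (4, 2), (4, 4), (6, 2)]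

/-- program for the element (1, 0) -/
def prog3 : List (ℕ × ℕ) :=
  [(3, 2), (0, 3), (2, 0), (6, 0), (6, 4), (1, 0), (6, 7), (1, 0), (0, 5), (0, 10),
   (0, 7), (0, 14), (15, 14), (0, 16), (0, 16), (0, 18), (0, 17), (0, 20), (0, 20), (0, 22),
   (0, 21), (0, 24), (0, 23), (0, 26), (0, 26), (0, 28), (0, 28), (0, 30), (0, 29), (0, 32),
   (0, 32), (0, 34), (0, 33), (0, 36), (0, 35), (23, 0), (37, 39), (38, 0), (0, 38), (0, 42),
   (33, 0), (36, 0), (3, 0), (45, 0), (5, 0), (48, 0), (10, 0), (50, 48), (0, 0), (0, 0),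
   (52, 0), (54, 0), (0, 52), (55, 56), (0, 0), (0, 0), (0, 57), (0, 60), (5, 0), (61, 0),
   (0, 0), (1, 0), (15, 0), (0, 0), (0, 0), (2, 0), (0, 54)]

/-- program for the element (1, 3) -/
def prog5 : List (ℕ × ℕ) :=
  [(2, 0), (0, 0), (0, 1), (0, 5), (7, 6), (0, 7), (6, 0), (3, 0), (0, 8), (0, 4),
   (13, 11), (0, 0), (0, 0), (15, 0), (17, 0), (0, 15), (18, 19), (0, 0), (0, 0), (0, 20),
   (0, 23), (5, 0), (24, 0), (0, 0), (1, 0), (28, 0), (0, 29), (29, 0), (0, 29), (31, 0),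
   (0, 31), (34, 0), (0, 35), (35, 0), (0, 35), (37, 0), (0, 37), (40, 0), (0, 41), (41, 0),
   (0, 41), (43, 0), (0, 43), (46, 0), (0, 47), (47, 0), (0, 47), (50, 0), (0, 51), (51, 0),
   (0, 51), (54, 0), (0, 55), (55, 0), (0, 55), (58, 0), (0, 59), (59, 0), (0, 59), (62, 0),
   (0, 63), (63, 0), (0, 63), (65, 0), (0, 65), (68, 0), (0, 69), (69, 0), (0, 69), (72, 71),
   (0, 73), (0, 73), (0, 75), (0, 74), (0, 77), (0, 77), (0, 79), (0, 78), (0, 81), (0, 80),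
   (0, 83), (0, 83), (0, 85), (0, 85), (0, 87), (0, 86), (0, 89), (0, 89), (0, 91), (0, 90),
   (0, 93), (0, 92), (23, 0), (83, 0), (95, 97), (96, 0), (0, 96), (97, 98), (0, 0), (1, 0),
   (101, 0), (4, 0), (102, 0), (8, 0), (10, 0), (108, 76), (0, 109), (109, 0), (0, 109), (112, 0),
   (0, 113), (113, 0), (0, 113), (115, 0), (0, 115), (118, 0), (0, 119), (119, 0), (0, 119), (121, 0),
   (0, 121), (124, 0), (0, 125), (125, 0), (0, 125), (128, 0), (0, 129), (129, 0), (0, 129), (132, 0),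
   (0, 133), (133, 0), (0, 133), (136, 0), (0, 137), (137, 0), (0, 137), (139, 0), (0, 139), (142, 0),
   (0, 143), (143, 0), (0, 143), (145, 0), (0, 145), (148, 0), (0, 149), (149, 0), (0, 149), (151, 0),
   (0, 151), (154, 0), (0, 155), (155, 0), (0, 155), (157, 0), (0, 157), (160, 0), (0, 161), (161, 0),
   (0, 161), (164, 0), (0, 165), (136, 0), (59, 0), (0, 0), (0, 0), (2, 0), (1, 1), (0, 0),
   (2, 0), (0, 161)]

/-- program for the element (2, 0) -/
def prog8 : List (ℕ × ℕ) :=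
  [(3, 2), (0, 3), (2, 0), (0, 4), (6, 4), (1, 0), (0, 7), (0, 8), (0, 7), (0, 9),
   (0, 13), (12, 14), (12, 13), (14, 1), (0, 14), (17, 0), (3, 0), (19, 0), (20, 0), (7, 0),
   (20, 0), (10, 0), (25, 23), (0, 0), (0, 0), (27, 0), (29, 0), (0, 27), (30, 31), (0, 0),
   (0, 0), (0, 32), (0, 35), (5, 0), (36, 0), (0, 0), (1, 0), (40, 0), (0, 41), (41, 0),
   (0, 41), (44, 0), (0, 45), (45, 0), (0, 45), (48, 0), (0, 49), (49, 0), (0, 49), (51, 0),
   (0, 51), (54, 0), (0, 55), (55, 0), (0, 55), (57, 0), (0, 57), (60, 0), (0, 61), (61, 0),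
   (0, 61), (64, 0), (0, 65), (65, 0), (0, 65), (68, 0), (0, 69), (69, 0), (0, 69), (72, 0),
   (0, 73), (73, 0), (0, 73), (75, 0), (0, 75), (78, 0), (0, 79), (79, 0), (0, 79), (81, 0),
   (0, 81), (84, 0), (0, 85), (85, 0), (0, 85), (87, 0), (0, 87), (90, 0), (0, 91), (91, 0),
   (0, 91), (93, 0), (0, 93), (96, 0), (0, 97), (97, 0), (0, 97), (100, 0), (0, 101), (60, 0),
   (78, 0), (0, 0), (0, 0), (2, 0), (1, 1), (0, 0), (2, 0), (0, 97)]

/-- program for the element (2, 1) -/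
def prog9 : List (ℕ × ℕ) :=
  [(0, 1), (2, 4), (1, 0), (4, 1), (0, 4), (0, 0), (6, 0), (5, 0), (8, 0), (9, 0),
   (10, 0), (8, 0), (12, 0), (16, 0), (17, 0), (16, 18), (19, 0), (18, 0), (21, 0), (21, 0),
   (23, 0), (22, 0), (25, 0), (25, 0), (27, 0), (27, 0), (29, 0), (28, 0), (31, 0), (30, 0),
   (33, 0), (33, 0), (35, 0), (34, 0), (37, 0), (37, 0), (39, 0), (39, 0), (41, 39), (0, 0),
   (0, 0), (43, 0), (45, 0), (45, 46), (0, 0), (0, 0), (0, 47), (0, 50), (48, 0), (6, 0),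
   (0, 51), (0, 0), (0, 1), (15, 0), (0, 0), (40, 0), (59, 58), (0, 59), (58, 0), (0, 0),
   (0, 60), (0, 4), (0, 62), (0, 63), (0, 64), (67, 65), (9, 0), (2, 0), (0, 68), (0, 72),
   (0, 73), (15, 0), (0, 17), (0, 0), (0, 0), (0, 2), (0, 61), (78, 74), (77, 0), (74, 0),
   (75, 0), (15, 0), (0, 27), (16, 85), (0, 18), (0, 26), (0, 27), (0, 86), (5, 0), (0, 34),
   (0, 0), (0, 0), (0, 2), (0, 11), (17, 0), (52, 95), (0, 48), (99, 0), (0, 0), (1, 0),
   (103, 102), (0, 104), (0, 104), (0, 106), (0, 105), (0, 108), (0, 108), (0, 110), (0, 109), (0, 112),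
   (0, 111), (0, 114), (0, 114), (0, 116), (0, 116), (0, 118), (0, 117), (0, 120), (0, 120), (0, 122),
   (0, 121), (0, 124), (0, 123), (23, 0), (0, 0), (0, 54), (111, 0), (2, 0), (0, 0), (0, 0),
   (2, 0), (60, 0), (37, 0), (132, 128), (77, 0), (132, 0), (138, 0), (135, 0), (140, 0), (139, 0),
   (0, 85), (82, 75), (0, 140), (0, 76), (0, 145), (0, 88), (0, 147), (0, 147), (7, 0), (0, 94),
   (0, 0), (0, 11), (19, 0), (28, 5), (14, 0), (30, 0), (0, 0), (9, 0), (64, 0), (7, 0),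
   (7, 0), (94, 94), (0, 165), (0, 164), (64, 167), (0, 0), (2, 0), (164, 164), (171, 0), (171, 0),
   (3, 0), (0, 46), (0, 0), (0, 0), (2, 0), (0, 11), (15, 0)]

/-- program for the element (2, 32) -/
def prog10 : List (ℕ × ℕ) :=
  [(3, 2), (3, 1), (3, 5), (4, 0), (0, 4), (4, 0), (6, 0), (9, 0), (10, 0), (7, 0),
   (9, 0), (12, 14), (15, 0), (14, 0), (17, 0), (17, 0), (19, 0), (18, 0), (21, 0), (21, 0),
   (23, 0), (23, 0), (25, 0), (24, 0), (27, 0), (26, 0), (29, 0), (29, 0), (31, 0), (30, 0),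
   (33, 0), (33, 0), (35, 0), (35, 0), (37, 35), (0, 0), (0, 0), (39, 0), (41, 0), (41, 42),
   (0, 0), (0, 0), (0, 43), (0, 46), (44, 0), (6, 0), (0, 47), (0, 0), (0, 1), (0, 52),
   (53, 0), (0, 52), (54, 0), (0, 54), (56, 0), (0, 58), (59, 0), (0, 58), (60, 0), (0, 60),
   (62, 0), (0, 64), (65, 0), (0, 64), (66, 0), (0, 66), (68, 0), (0, 70), (71, 0), (0, 70),
   (72, 0), (0, 74), (75, 0), (0, 74), (76, 0), (0, 78), (79, 0), (0, 78), (80, 0), (0, 82),
   (83, 0), (0, 82), (84, 0), (0, 86), (87, 0), (0, 86), (88, 0), (0, 88), (90, 0), (0, 92),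
   (93, 0), (57, 0), (0, 0), (82, 0), (93, 96), (95, 0), (0, 93), (0, 97), (0, 99), (0, 100),
   (100, 101), (1, 0), (0, 99), (9, 0), (0, 11), (0, 0), (0, 0), (0, 2), (0, 97), (8, 8),
   (0, 110), (0, 108), (0, 110), (0, 112), (0, 114), (0, 113), (0, 116), (0, 117), (0, 116), (80, 119),
   (0, 76), (123, 0), (0, 0), (1, 0), (127, 0), (0, 128), (128, 0), (0, 128), (130, 0), (0, 130),
   (133, 0), (0, 134), (134, 0), (0, 134), (136, 0), (0, 136), (139, 0), (0, 140), (140, 0), (0, 140),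
   (142, 0), (0, 142), (145, 0), (0, 146), (146, 0), (0, 146), (149, 0), (0, 150), (150, 0), (0, 150),
   (153, 0), (0, 154), (154, 0), (0, 154), (157, 0), (0, 158), (158, 0), (0, 158), (161, 0), (0, 162),
   (162, 0), (0, 162), (164, 0), (0, 164), (167, 0), (0, 168), (169, 168), (0, 170), (0, 170), (0, 172),
   (0, 171), (0, 174), (0, 174), (0, 176), (0, 175), (0, 178), (0, 177), (0, 180), (0, 180), (0, 182),
   (0, 182), (0, 184), (0, 183), (0, 186), (0, 186), (0, 188), (0, 187), (0, 190), (0, 189), (23, 0),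
   (0, 0), (189, 189), (192, 0), (192, 0), (93, 0), (192, 0), (196, 0), (96, 0), (198, 0), (199, 0),
   (99, 0), (10, 82), (1, 0), (12, 0), (0, 0), (0, 0), (2, 0), (88, 0), (99, 0), (212, 211),
   (0, 210), (0, 115), (0, 209), (0, 210), (5, 0)]

/-- program for the element (2, 1056) -/
def prog11 : List (ℕ × ℕ) :=
  [(3, 2), (3, 1), (1, 0), (3, 0), (0, 3), (0, 8), (0, 8), (10, 8), (0, 0), (0, 0),
   (12, 0), (14, 0), (0, 12), (15, 16), (0, 0), (0, 0), (0, 17), (0, 20), (5, 0), (21, 0),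
   (0, 0), (1, 0), (25, 0), (0, 26), (26, 0), (0, 26), (28, 0), (0, 28), (31, 0), (0, 32),
   (32, 0), (0, 32), (35, 0), (0, 36), (36, 0), (0, 36), (38, 0), (0, 38), (41, 0), (0, 42),
   (42, 0), (0, 42), (45, 0), (0, 46), (46, 0), (0, 46), (49, 0), (0, 50), (50, 0), (0, 50),
   (53, 0), (0, 54), (54, 0), (0, 54), (57, 0), (0, 58), (58, 0), (0, 58), (61, 0), (0, 62),
   (62, 0), (0, 62), (64, 0), (0, 64), (67, 0), (0, 68), (68, 0), (0, 68), (71, 0), (0, 72),
   (72, 0), (0, 72), (75, 0), (0, 76), (52, 0), (0, 78), (69, 0), (78, 80), (78, 79), (0, 1),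
   (0, 80), (3, 0), (85, 0), (84, 0), (7, 0), (0, 63), (0, 0), (0, 0), (2, 0), (0, 82)]

/-- program for the element (3, 0) -/
def prog12 : List (ℕ × ℕ) :=
  [(3, 2), (2, 4), (4, 2), (4, 1), (0, 4), (6, 0), (3, 0), (8, 0), (6, 0), (8, 0),
   (9, 12), (11, 0), (0, 10), (0, 13), (0, 15), (0, 16), (16, 17), (1, 0), (0, 16), (22, 20),
   (0, 0), (0, 0), (24, 0), (26, 0), (0, 24), (27, 28), (0, 0), (0, 0), (0, 29), (0, 32),
   (5, 0), (33, 0), (0, 0), (1, 0), (37, 0), (0, 38), (38, 0), (0, 38), (40, 0), (0, 40),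
   (43, 0), (0, 44), (44, 0), (0, 44), (46, 0), (0, 46), (49, 0), (0, 50), (50, 0), (0, 50),
   (52, 0), (0, 52), (55, 0), (0, 56), (56, 0), (0, 56), (59, 0), (0, 60), (60, 0), (0, 60),
   (63, 0), (0, 64), (64, 0), (0, 64), (67, 0), (0, 68), (68, 0), (0, 68), (71, 0), (0, 72),
   (72, 0), (0, 72), (74, 0), (0, 74), (77, 0), (0, 78), (79, 78), (0, 80), (0, 80), (0, 82),
   (0, 81), (0, 84), (0, 84), (0, 86), (0, 85), (0, 88), (0, 87), (0, 90), (0, 90), (0, 92),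
   (0, 92), (0, 94), (0, 93), (0, 96), (0, 96), (0, 98), (0, 97), (0, 100), (0, 99), (23, 0),
   (0, 0), (100, 96), (102, 0), (105, 0), (106, 0), (102, 0), (105, 0), (6, 88), (1, 0), (8, 0),
   (0, 0), (0, 0), (2, 0), (94, 0), (104, 0), (98, 113), (0, 116), (100, 0), (121, 0), (102, 0),
   (103, 0), (5, 0), (117, 0), (125, 0), (8, 0), (125, 0), (127, 129), (130, 0), (129, 0), (132, 0),
   (132, 0), (134, 0), (133, 0), (136, 0), (136, 0), (138, 0), (138, 0), (140, 0), (139, 0), (142, 0),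
   (141, 0), (144, 0), (144, 0), (146, 0), (145, 0), (148, 0), (148, 0), (150, 0), (150, 0), (149, 119),
   (126, 0), (0, 152), (0, 0), (0, 1), (0, 157), (158, 0), (0, 157), (159, 0), (0, 159), (161, 0),
   (0, 163), (164, 0), (0, 163), (165, 0), (0, 165), (167, 0), (0, 169), (170, 0), (0, 169), (171, 0),
   (0, 171), (173, 0), (0, 175), (176, 0), (0, 175), (177, 0), (0, 179), (180, 0), (0, 179), (181, 0),
   (0, 183), (184, 0), (0, 183), (185, 0), (0, 187), (188, 0), (0, 187), (189, 0), (0, 191), (192, 0),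
   (0, 191), (193, 0), (0, 193), (195, 0), (0, 197), (198, 0), (47, 0), (0, 0), (72, 0), (198, 196),
   (200, 0), (0, 198), (0, 205), (0, 200), (0, 201), (0, 5), (0, 194), (0, 208), (0, 8), (0, 209),
   (11, 0), (0, 13), (0, 0), (0, 0), (0, 2), (0, 89), (213, 213), (217, 0), (217, 0), (202, 0),
   (218, 0), (221, 0), (205, 0), (223, 0), (224, 0), (208, 0), (0, 28), (210, 210), (0, 228), (0, 227),
   (0, 227), (0, 230), (0, 232), (0, 230), (0, 234), (0, 235), (0, 233), (10, 0), (0, 40), (0, 0),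
   (0, 0), (0, 2), (0, 16), (231, 245), (0, 227), (0, 247), (0, 245), (0, 245), (5, 0), (33, 0),
   (135, 0), (51, 248), (0, 52), (0, 241), (0, 256), (0, 238), (0, 258), (0, 57), (261, 260), (0, 262),
   (0, 262), (0, 264), (0, 263), (0, 266), (0, 266), (0, 268), (0, 267), (0, 270), (0, 269), (0, 0),
   (12, 0), (254, 155), (156, 0), (268, 0), (275, 0), (272, 0), (277, 0), (161, 0), (7, 0), (0, 178),
   (0, 0), (0, 0), (2, 0), (0, 25), (33, 0)]

/-- program for the element (3, 1) -/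
def prog13 : List (ℕ × ℕ) :=
  [(1, 3), (2, 0), (0, 2), (6, 5), (4, 5), (0, 4), (1, 0), (9, 0), (4, 0), (6, 0),
   (10, 0), (14, 0), (11, 0), (16, 0), (15, 17), (18, 0), (17, 0), (20, 0), (20, 0), (22, 0),
   (21, 0), (24, 0), (24, 0), (26, 0), (26, 0), (28, 0), (27, 0), (30, 0), (29, 0), (32, 0),
   (32, 0), (34, 0), (33, 0), (36, 0), (36, 0), (38, 0), (38, 0), (40, 38), (0, 0), (0, 0),
   (42, 0), (44, 0), (44, 45), (0, 0), (0, 0), (0, 46), (0, 49), (47, 0), (6, 0), (0, 50),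
   (0, 0), (0, 1), (0, 55), (56, 0), (0, 55), (57, 0), (19, 0), (0, 0), (44, 0), (61, 59),
   (56, 0), (0, 1), (0, 63), (0, 62), (60, 66), (65, 0), (2, 0), (0, 67), (0, 71), (0, 65),
   (0, 73), (12, 0), (0, 14), (0, 0), (0, 0), (0, 0), (0, 0), (2, 4), (1, 0), (0, 65),
   (81, 74), (75, 0), (85, 0), (86, 0), (81, 0), (82, 0), (85, 0), (81, 0), (0, 30), (28, 91),
   (0, 29), (0, 94), (0, 95), (0, 27), (0, 28), (0, 91), (0, 35), (8, 0), (0, 40), (0, 0),
   (0, 0), (0, 0), (2, 3), (2, 0), (2, 0), (0, 17), (26, 0), (110, 46), (0, 104), (0, 48),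
   (0, 49), (0, 50), (0, 113), (0, 47), (0, 115), (0, 117), (0, 50), (0, 57), (76, 118), (0, 72),
   (122, 0), (0, 0), (1, 0), (126, 0), (0, 127), (127, 0), (0, 127), (130, 129), (0, 131), (0, 131),
   (0, 133), (0, 132), (0, 135), (0, 135), (0, 137), (0, 136), (0, 139), (0, 138), (0, 141), (0, 141),
   (0, 143), (0, 143), (0, 145), (0, 144), (0, 147), (0, 147), (0, 149), (0, 148), (0, 151), (0, 150),
   (23, 0), (0, 0), (146, 155), (152, 0), (148, 0), (149, 0), (150, 0), (159, 0), (155, 0), (161, 0),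
   (161, 0), (158, 0), (157, 0), (11, 45), (1, 0), (13, 0), (0, 0), (1, 0), (1, 1), (1, 0),
   (1, 1), (1, 0), (54, 0), (176, 169), (0, 174), (0, 171), (0, 179), (0, 176), (0, 179), (0, 181),
   (0, 175), (180, 184), (182, 0), (182, 0), (187, 0), (181, 0), (188, 0), (188, 0), (128, 0), (37, 8),
   (1, 0), (39, 0), (11, 0), (0, 20), (21, 0), (88, 0), (197, 195), (0, 198), (0, 132), (0, 202),
   (0, 134), (0, 196), (205, 204), (0, 206), (0, 206), (0, 208), (0, 207), (0, 210), (0, 210), (0, 212),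
   (0, 211), (0, 214), (0, 213), (90, 0), (0, 0), (13, 0), (212, 218), (219, 0), (215, 0), (222, 0),
   (217, 0), (161, 0), (6, 0), (0, 71), (0, 0), (0, 0), (2, 0), (1, 1), (0, 0), (2, 0),
   (0, 28), (35, 0)]

/-- program for the element (3, 3) -/
def prog14 : List (ℕ × ℕ) :=
  [(2, 0), (2, 4), (3, 0), (0, 3), (4, 5), (0, 3), (7, 0), (2, 0), (4, 0), (5, 0),
   (9, 0), (12, 14), (15, 0), (14, 0), (17, 0), (17, 0), (19, 0), (18, 0), (21, 0), (21, 0),
   (23, 0), (23, 0), (25, 0), (24, 0), (27, 0), (26, 0), (29, 0), (29, 0), (31, 0), (30, 0),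
   (33, 0), (33, 0), (35, 0), (35, 0), (37, 35), (0, 0), (0, 0), (39, 0), (41, 0), (41, 42),
   (0, 0), (0, 0), (0, 43), (0, 46), (44, 0), (6, 0), (0, 47), (0, 0), (0, 1), (15, 0),
   (0, 0), (40, 0), (55, 54), (0, 52), (0, 56), (0, 54), (3, 58), (57, 0), (2, 0), (0, 1),
   (0, 55), (9, 0), (0, 11), (0, 0), (0, 0), (0, 2), (0, 55), (0, 0), (10, 10), (0, 69),
   (0, 17), (0, 71), (0, 72), (0, 73), (0, 20), (0, 75), (0, 79), (0, 80), (39, 78), (0, 35),
   (82, 0), (0, 0), (1, 0), (86, 85), (0, 87), (0, 87), (0, 89), (0, 88), (0, 91), (0, 91),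
   (0, 93), (0, 92), (0, 95), (0, 94), (0, 97), (0, 97), (0, 99), (0, 99), (0, 101), (0, 100),
   (0, 103), (0, 103), (0, 105), (0, 104), (0, 107), (0, 106), (23, 0), (0, 0), (104, 104), (109, 0),
   (108, 0), (111, 0), (112, 0), (113, 0), (108, 0), (115, 0), (119, 0), (120, 0), (10, 40), (1, 0),
   (12, 0), (0, 0), (0, 0), (2, 0), (46, 0), (57, 0), (18, 65), (116, 0), (20, 0), (0, 0),
   (0, 0), (2, 0), (71, 0), (75, 132), (0, 132), (0, 81), (0, 137), (0, 84), (0, 139), (0, 139),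
   (135, 136), (88, 0), (136, 0), (145, 0), (142, 0), (147, 0), (146, 0), (39, 7), (1, 0), (41, 0),
   (0, 0), (11, 0), (147, 150), (0, 148), (0, 154), (0, 154), (0, 98), (104, 156), (157, 0), (159, 0),
   (155, 0), (157, 0), (54, 5), (1, 0), (56, 0), (0, 0), (0, 0), (2, 0), (11, 0), (17, 0),
   (37, 0), (45, 0), (171, 174), (0, 175), (0, 175), (0, 117), (0, 178), (0, 178), (181, 95), (0, 182),
   (182, 0), (0, 182), (184, 0), (0, 184), (187, 0), (0, 188), (188, 0), (0, 188), (190, 0), (0, 190),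
   (193, 0), (0, 194), (194, 0), (0, 194), (196, 0), (0, 196), (199, 0), (0, 200), (200, 0), (0, 200),
   (203, 0), (0, 204), (204, 0), (0, 204), (207, 0), (0, 208), (208, 0), (0, 208), (211, 0), (0, 212),
   (212, 0), (0, 212), (215, 0), (0, 216), (216, 0), (0, 216), (218, 0), (0, 218), (221, 0), (0, 222),
   (222, 0), (0, 222), (225, 224), (0, 226), (0, 226), (0, 228), (0, 227), (0, 230), (0, 230), (0, 232),
   (0, 231), (0, 234), (0, 233), (11, 0), (0, 0), (57, 0), (237, 231), (238, 0), (240, 0), (235, 0),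
   (241, 0), (243, 0), (6, 0), (0, 135), (0, 0), (0, 0), (2, 0), (0, 69), (76, 0)]

/-- program for the element (4, 0) -/
def prog16 : List (ℕ × ℕ) :=
  [(1, 3), (2, 0), (0, 2), (3, 4), (6, 4), (8, 7), (0, 1), (2, 0), (8, 0), (5, 0),
   (7, 0), (12, 14), (15, 0), (14, 0), (17, 0), (17, 0), (19, 0), (18, 0), (21, 0), (21, 0),
   (23, 0), (23, 0), (25, 0), (24, 0), (27, 0), (26, 0), (29, 0), (29, 0), (31, 0), (30, 0),
   (33, 0), (33, 0), (35, 0), (35, 0), (37, 35), (0, 0), (0, 0), (39, 0), (41, 0), (41, 42),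
   (0, 0), (0, 0), (0, 43), (0, 46), (44, 0), (6, 0), (0, 47), (0, 0), (0, 1), (15, 0),
   (0, 0), (40, 0), (48, 51), (0, 49), (0, 54), (0, 50), (50, 58), (57, 0), (2, 0), (7, 0),
   (0, 9), (0, 0), (0, 0), (0, 2), (0, 53), (7, 60), (0, 65), (61, 62), (1, 0), (0, 70),
   (0, 64), (0, 72), (0, 72), (34, 73), (0, 30), (77, 0), (0, 0), (1, 0), (81, 80), (0, 82),
   (0, 82), (0, 84), (0, 83), (0, 86), (0, 86), (0, 88), (0, 87), (0, 90), (0, 89), (0, 92),
   (0, 92), (0, 94), (0, 94), (0, 96), (0, 95), (0, 98), (0, 98), (0, 100), (0, 99), (0, 102),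
   (0, 101), (23, 0), (0, 0), (99, 102), (100, 101), (99, 0), (2, 0), (109, 0), (107, 0), (111, 0),
   (110, 0), (8, 38), (1, 0), (10, 0), (0, 0), (42, 0), (51, 0), (14, 58), (107, 0), (16, 0),
   (0, 0), (0, 0), (2, 0), (64, 0), (7, 0), (122, 122), (126, 0), (126, 0), (128, 0), (129, 0),
   (130, 0), (27, 0), (132, 0), (136, 0), (137, 0), (0, 84), (78, 78), (0, 137), (0, 132), (0, 139),
   (0, 140), (0, 141), (0, 74), (0, 143), (0, 147), (0, 148), (10, 0), (0, 96), (0, 0), (0, 0),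
   (0, 2), (0, 16), (41, 101), (0, 80), (0, 103), (0, 0), (0, 45), (54, 11), (23, 0), (56, 0),
   (0, 0), (0, 0), (2, 0), (17, 0), (99, 0), (8, 0), (14, 0), (42, 0), (168, 110), (0, 101),
   (0, 173), (0, 165), (175, 174), (0, 176), (0, 176), (0, 178), (0, 178), (0, 180), (0, 179), (0, 182),
   (0, 182), (0, 184), (0, 184), (0, 186), (0, 186), (0, 188), (0, 187), (0, 0), (16, 0), (186, 189),
   (86, 0), (194, 0), (191, 0), (4, 0), (0, 91), (0, 0), (0, 0), (2, 0), (0, 26), (31, 0)]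

/-- program for the element (4, 1) -/
def prog17 : List (ℕ × ℕ) :=
  [(1, 3), (1, 2), (0, 1), (6, 5), (5, 3), (0, 5), (4, 0), (3, 0), (5, 0), (11, 0),
   (9, 0), (13, 0), (12, 0), (14, 16), (17, 0), (16, 0), (19, 0), (19, 0), (21, 0), (20, 0),
   (23, 0), (23, 0), (25, 0), (25, 0), (27, 0), (26, 0), (29, 0), (28, 0), (31, 0), (31, 0),
   (33, 0), (32, 0), (35, 0), (35, 0), (37, 0), (37, 0), (39, 37), (0, 0), (0, 0), (41, 0),
   (43, 0), (43, 44), (0, 0), (0, 0), (0, 45), (0, 48), (46, 0), (6, 0), (0, 49), (0, 0),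
   (0, 1), (15, 0), (0, 0), (40, 0), (50, 56), (55, 0), (58, 56), (1, 0), (0, 57), (55, 2),
   (1, 0), (0, 62), (0, 58), (0, 64), (0, 64), (11, 0), (0, 13), (0, 0), (0, 55), (70, 66),
   (68, 0), (65, 0), (66, 0), (16, 0), (0, 21), (15, 77), (0, 19), (0, 21), (0, 22), (0, 77),
   (5, 0), (0, 28), (0, 0), (0, 0), (0, 2), (0, 11), (17, 0), (46, 87), (0, 42), (91, 0),
   (0, 0), (1, 0), (95, 94), (0, 96), (0, 96), (0, 98), (0, 97), (0, 100), (0, 100), (0, 102),
   (0, 101), (0, 104), (0, 103), (0, 106), (0, 106), (0, 108), (0, 108), (0, 110), (0, 109), (0, 112),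
   (0, 112), (0, 114), (0, 113), (0, 116), (0, 115), (23, 0), (0, 0), (0, 52), (105, 0), (2, 0),
   (0, 0), (56, 0), (35, 0), (0, 37), (120, 67), (68, 0), (126, 0), (125, 0), (122, 0), (0, 76),
   (128, 129), (0, 129), (0, 132), (0, 76), (0, 78), (5, 0), (0, 83), (0, 0), (0, 0), (0, 2),
   (0, 11), (24, 61), (68, 0), (26, 0), (0, 0), (0, 0), (2, 0), (67, 0), (79, 0), (8, 0),
   (26, 0), (153, 152), (0, 152), (156, 155), (0, 157), (0, 157), (0, 159), (0, 159), (0, 161), (0, 160),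
   (0, 163), (0, 163), (0, 165), (0, 165), (0, 167), (0, 167), (0, 169), (0, 168), (76, 0), (0, 0),
   (17, 0), (173, 172), (172, 0), (2, 0), (0, 57), (0, 0), (0, 23), (26, 0)]

/-- program for the element (4, 3) -/
def prog19 : List (ℕ × ℕ) :=
  [(1, 3), (2, 0), (0, 2), (3, 4), (6, 0), (2, 0), (5, 0), (9, 0), (10, 0), (9, 0),
   (6, 0), (8, 0), (11, 0), (14, 16), (17, 0), (16, 0), (19, 0), (18, 0), (21, 0), (21, 0),
   (23, 0), (22, 0), (25, 0), (24, 0), (27, 0), (26, 0), (29, 0), (29, 0), (31, 29), (0, 0),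
   (0, 0), (33, 0), (35, 0), (35, 36), (0, 0), (0, 0), (0, 37), (0, 40), (38, 0), (6, 0),
   (0, 41), (0, 0), (0, 1), (0, 46), (47, 0), (17, 0), (0, 0), (0, 0), (35, 0), (51, 49),
   (0, 51), (54, 53), (0, 54), (53, 0), (3, 0), (0, 3), (0, 57), (0, 58), (0, 58), (0, 9),
   (0, 6), (0, 9), (13, 0), (0, 15), (0, 0), (0, 0), (0, 2), (0, 54), (69, 70), (0, 71),
   (0, 72), (0, 19), (0, 74), (0, 69), (22, 24), (1, 0), (0, 72), (0, 80), (45, 78), (0, 41),
   (82, 0), (0, 0), (1, 0), (86, 0), (0, 87), (88, 87), (0, 89), (0, 89), (0, 91), (0, 91),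
   (0, 93), (0, 92), (0, 95), (0, 95), (0, 97), (0, 97), (0, 99), (0, 99), (0, 101), (0, 100),
   (15, 0), (0, 0), (0, 0), (99, 102), (105, 106), (106, 0), (107, 0), (106, 0), (109, 0), (59, 0),
   (6, 0), (61, 0), (115, 0), (10, 35), (1, 0), (12, 0), (38, 0), (49, 0), (114, 117), (118, 0),
   (68, 0), (121, 0), (123, 0), (73, 0), (0, 76), (73, 75), (0, 74), (0, 126), (0, 128), (0, 131),
   (0, 126), (6, 0), (0, 84), (0, 0), (0, 10), (17, 0), (82, 61), (0, 136), (0, 86), (0, 138),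
   (0, 142), (37, 138), (90, 0), (142, 0), (92, 0), (146, 0), (43, 5), (1, 0), (45, 0), (0, 0),
   (0, 0), (2, 0), (11, 0), (17, 0), (151, 102), (105, 0), (153, 0), (156, 0), (106, 0), (155, 0),
   (0, 112), (160, 107), (0, 158), (0, 109), (0, 112), (0, 164), (0, 116), (6, 0), (0, 120), (0, 0),
   (0, 0), (0, 2), (0, 12), (70, 6), (14, 0), (72, 0), (0, 0), (0, 0), (2, 0), (12, 0),
   (27, 0), (28, 0), (9, 0), (29, 0), (180, 185), (0, 185), (0, 136), (0, 183), (190, 103), (0, 190),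
   (192, 0), (0, 192), (195, 0), (0, 196), (196, 0), (0, 196), (198, 0), (0, 198), (201, 0), (0, 202),
   (202, 0), (0, 202), (204, 0), (0, 204), (207, 0), (0, 208), (208, 0), (0, 208), (211, 0), (0, 212),
   (212, 0), (0, 212), (215, 0), (0, 216), (216, 0), (0, 216), (219, 0), (0, 220), (220, 0), (0, 220),
   (223, 0), (0, 224), (224, 0), (0, 224), (226, 0), (0, 226), (229, 0), (0, 230), (230, 0), (0, 230),
   (233, 232), (0, 234), (0, 234), (0, 236), (0, 236), (0, 238), (0, 237), (0, 240), (0, 240), (0, 242),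
   (0, 242), (0, 244), (0, 244), (0, 246), (0, 245), (15, 0), (0, 0), (0, 0), (60, 0), (251, 199),
   (250, 0), (247, 0), (202, 0), (4, 0), (0, 151), (0, 0), (0, 0), (2, 0), (0, 70), (75, 0)]

/-- program for the element (4, 5) -/
def prog21 : List (ℕ × ℕ) :=
  [(0, 1), (2, 4), (1, 0), (6, 5), (7, 3), (5, 0), (5, 0), (3, 0), (8, 0), (11, 0),
   (7, 0), (13, 0), (13, 15), (16, 0), (15, 0), (18, 0), (17, 0), (20, 0), (20, 0), (22, 0),
   (21, 0), (24, 0), (23, 0), (26, 0), (25, 0), (28, 0), (28, 0), (30, 28), (0, 0), (0, 0),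
   (32, 0), (34, 0), (34, 35), (0, 0), (0, 0), (0, 36), (0, 39), (37, 0), (6, 0), (0, 40),
   (0, 0), (0, 1), (0, 45), (46, 0), (0, 45), (47, 0), (0, 47), (49, 0), (21, 0), (0, 0),
   (0, 0), (39, 0), (54, 52), (0, 56), (0, 54), (0, 2), (0, 54), (0, 57), (0, 59), (55, 6),
   (1, 0), (0, 62), (10, 0), (0, 12), (0, 0), (0, 0), (0, 2), (0, 55), (69, 66), (0, 69),
   (70, 66), (74, 0), (74, 0), (20, 0), (4, 0), (77, 0), (78, 0), (24, 0), (0, 27), (77, 79),
   (0, 83), (0, 82), (0, 81), (79, 85), (84, 0), (2, 0), (0, 87), (0, 88), (0, 87), (10, 0),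
   (0, 39), (0, 0), (0, 14), (25, 0), (93, 94), (42, 0), (97, 0), (97, 0), (94, 0), (97, 0),
   (96, 0), (31, 0), (102, 0), (106, 0), (106, 0), (0, 54), (106, 53), (0, 106), (0, 110), (0, 109),
   (0, 108), (0, 107), (0, 110), (0, 28), (0, 114), (0, 118), (0, 117), (11, 0), (0, 67), (0, 0),
   (0, 0), (0, 2), (0, 17), (29, 0), (121, 127), (127, 0), (124, 0), (124, 0), (127, 0), (59, 0),
   (130, 0), (129, 0), (133, 0), (0, 82), (137, 74), (0, 136), (0, 132), (0, 77), (0, 85), (0, 54),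
   (0, 140), (0, 137), (0, 144), (9, 0), (0, 93), (0, 12), (22, 0), (115, 147), (0, 111), (151, 0),
   (0, 0), (1, 0), (155, 0), (0, 156), (156, 0), (0, 156), (158, 0), (0, 158), (161, 160), (0, 162),
   (0, 162), (0, 164), (0, 164), (0, 166), (0, 165), (0, 168), (0, 168), (0, 170), (0, 170), (0, 172),
   (0, 172), (0, 174), (0, 173), (15, 0), (0, 0), (0, 0), (0, 114), (165, 0), (2, 0), (0, 0),
   (0, 0), (2, 0), (120, 0), (130, 182), (185, 0), (184, 0), (182, 0), (185, 0), (185, 0), (192, 0),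
   (188, 0), (190, 0), (122, 0), (193, 0), (0, 143), (142, 194), (0, 198), (0, 144), (0, 196), (0, 195),
   (0, 140), (0, 204), (0, 198), (0, 150), (0, 119), (0, 205), (11, 0), (0, 156), (0, 0), (0, 0),
   (0, 2), (0, 17), (36, 69), (80, 0), (38, 0), (72, 0), (219, 217), (0, 215), (0, 219), (0, 219),
   (0, 222), (0, 224), (0, 220), (225, 226), (220, 0), (227, 0), (226, 0), (228, 0), (231, 0), (225, 0),
   (54, 7), (1, 0), (56, 0), (10, 0), (18, 0), (23, 0), (53, 0), (90, 0), (178, 239), (0, 179),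
   (0, 180), (0, 237), (0, 240), (0, 242), (247, 86), (0, 248), (248, 0), (0, 248), (250, 0), (0, 250),
   (253, 0), (0, 254), (254, 0), (0, 254), (256, 0), (0, 256), (259, 0), (0, 260), (260, 0), (0, 260),
   (263, 0), (0, 264), (264, 0), (0, 264), (267, 0), (0, 268), (268, 0), (0, 268), (271, 0), (0, 272),
   (272, 0), (0, 272), (275, 0), (0, 276), (276, 0), (0, 276), (278, 0), (0, 278), (281, 0), (0, 282),
   (283, 282), (0, 284), (0, 284), (0, 286), (0, 286), (0, 288), (0, 287), (0, 290), (0, 290), (0, 292),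
   (0, 292), (0, 294), (0, 294), (0, 296), (0, 295), (15, 0), (0, 0), (0, 0), (54, 0), (301, 296),
   (297, 0), (298, 0), (300, 0), (299, 0), (251, 0), (6, 0), (0, 130), (0, 0), (0, 0), (2, 0),
   (0, 66), (73, 0)]

/-- program for the element (4, 8) -/
def prog22 : List (ℕ × ℕ) :=
  [(3, 2), (3, 1), (1, 0), (6, 0), (0, 5), (0, 4), (0, 3), (0, 5), (7, 10), (9, 0),
   (2, 0), (0, 11), (0, 11), (0, 15), (17, 15), (0, 0), (0, 0), (19, 0), (21, 0), (0, 19),
   (22, 23), (0, 0), (0, 0), (0, 24), (0, 27), (5, 0), (28, 0), (0, 0), (1, 0), (32, 0),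
   (0, 33), (33, 0), (0, 33), (35, 0), (0, 35), (38, 37), (0, 39), (0, 39), (0, 41), (0, 41),
   (0, 43), (0, 42), (0, 45), (0, 45), (0, 47), (0, 47), (0, 49), (0, 49), (0, 51), (0, 50),
   (15, 0), (0, 0), (0, 0), (54, 56), (55, 0), (0, 55), (56, 57), (0, 3), (0, 61), (61, 0),
   (6, 0), (3, 0), (5, 0), (7, 0), (64, 0), (11, 0), (67, 0), (14, 53), (1, 0), (16, 0),
   (56, 0), (17, 71), (0, 75), (0, 74), (0, 17), (0, 65), (0, 77), (0, 78), (0, 21), (79, 78),
   (83, 0), (83, 0), (80, 0), (27, 0), (86, 0), (87, 0), (84, 0), (34, 8), (1, 0), (36, 0),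
   (0, 0), (12, 0), (21, 0), (94, 96), (97, 0), (96, 0), (99, 0), (98, 0), (101, 0), (101, 0),
   (103, 0), (102, 0), (105, 0), (104, 0), (107, 0), (106, 0), (109, 0), (109, 0), (108, 83), (90, 0),
   (0, 111), (0, 0), (0, 1), (0, 116), (117, 0), (0, 116), (118, 0), (0, 118), (120, 0), (11, 0),
   (0, 0), (0, 0), (55, 0), (0, 109), (0, 2), (0, 58), (33, 0), (127, 125), (0, 71), (0, 131),
   (0, 130), (0, 77), (0, 131), (0, 79), (0, 124), (0, 135), (0, 139), (0, 138), (81, 138), (137, 0),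
   (141, 0), (141, 0), (141, 0), (89, 0), (143, 0), (89, 0), (146, 0), (150, 0), (150, 0), (96, 11),
   (1, 0), (98, 0), (0, 0), (0, 0), (2, 0), (17, 0), (154, 99), (158, 0), (101, 0), (158, 0),
   (106, 0), (103, 0), (165, 0), (109, 0), (107, 0), (109, 0), (166, 0), (0, 45), (166, 111), (0, 171),
   (0, 168), (0, 117), (0, 171), (0, 170), (0, 177), (0, 174), (0, 174), (0, 167), (0, 178), (11, 0),
   (0, 58), (0, 0), (0, 0), (0, 2), (0, 17), (29, 93), (1, 0), (31, 0), (61, 0), (190, 187),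
   (0, 190), (2, 0)]

/-- program for the element (4, 10) -/
def prog23 : List (ℕ × ℕ) :=
  [(1, 2), (0, 3), (0, 4), (6, 5), (1, 0), (0, 7), (6, 7), (1, 0), (10, 8), (5, 0),
   (2, 0), (0, 4), (0, 15), (16, 14), (0, 0), (0, 0), (18, 0), (20, 0), (0, 18), (21, 22),
   (0, 0), (0, 0), (0, 23), (0, 26), (5, 0), (27, 0), (0, 0), (1, 0), (31, 0), (0, 32),
   (33, 32), (0, 34), (0, 34), (0, 36), (0, 36), (0, 38), (0, 37), (0, 40), (0, 40), (0, 42),
   (0, 42), (0, 44), (0, 44), (0, 46), (0, 45), (15, 0), (0, 0), (0, 0), (49, 51), (42, 0),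
   (51, 52), (52, 0), (53, 0), (4, 0), (55, 0), (46, 0), (6, 0), (48, 0), (61, 0), (11, 46),
   (1, 0), (13, 0), (49, 0), (64, 14), (0, 64), (67, 58), (1, 0), (18, 0), (70, 0), (71, 0),
   (70, 0), (64, 0), (7, 0), (24, 0), (75, 77), (78, 0), (77, 0), (80, 0), (79, 0), (82, 0),
   (82, 0), (84, 0), (83, 0), (86, 0), (85, 0), (88, 0), (87, 0), (90, 0), (90, 0), (89, 65),
   (72, 0), (0, 92), (0, 0), (0, 1), (0, 97), (98, 0), (7, 0), (0, 0), (0, 0), (25, 0),
   (91, 101), (97, 103), (102, 0), (2, 0), (0, 100), (0, 106), (0, 107), (0, 107), (0, 99), (0, 6),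
   (0, 106), (11, 0), (0, 13), (0, 0), (0, 0), (0, 2), (0, 42), (54, 0), (53, 114), (110, 0),
   (55, 0), (72, 0), (118, 0), (116, 0), (0, 25), (76, 22), (0, 119), (0, 24), (0, 124), (0, 80),
   (0, 121), (6, 0), (0, 33), (0, 0), (0, 0), (0, 2), (0, 12), (19, 0), (88, 73), (135, 0),
   (91, 0), (137, 0), (143, 0), (0, 44), (41, 134), (0, 96), (0, 142), (0, 98), (0, 150), (5, 0),
   (0, 51), (0, 0), (0, 0), (0, 2), (0, 11), (18, 0), (39, 0), (94, 0), (20, 0), (155, 159),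
   (0, 161), (0, 112), (0, 164), (0, 164), (0, 165), (0, 116), (168, 136), (0, 168), (170, 0), (0, 170),
   (173, 0), (0, 174), (174, 0), (0, 174), (176, 0), (0, 176), (179, 0), (0, 180), (180, 0), (0, 180),
   (182, 0), (0, 182), (185, 0), (0, 186), (186, 0), (0, 186), (189, 0), (0, 190), (190, 0), (0, 190),
   (193, 0), (0, 194), (194, 0), (0, 194), (197, 0), (0, 198), (198, 0), (0, 198), (201, 0), (0, 202),
   (202, 0), (0, 202), (204, 0), (0, 204), (207, 206), (0, 208), (0, 208), (0, 210), (0, 210), (0, 212),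
   (0, 211), (0, 214), (0, 214), (0, 216), (0, 216), (0, 218), (0, 218), (0, 220), (0, 219), (15, 0),
   (0, 0), (0, 0), (56, 0), (223, 174), (226, 0), (221, 0), (227, 0), (229, 0), (230, 0), (225, 0),
   (7, 0), (0, 183), (0, 0), (0, 67), (75, 0)]

/-- program for the element (4, 11) -/
def prog24 : List (ℕ × ℕ) :=
  [(1, 3), (4, 3), (0, 4), (3, 0), (3, 0), (5, 6), (1, 0), (0, 3), (0, 6), (0, 8),
   (12, 10), (1, 0), (15, 13), (0, 0), (0, 0), (17, 0), (19, 0), (0, 17), (20, 21), (0, 0),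
   (0, 0), (0, 22), (0, 25), (5, 0), (26, 0), (0, 0), (1, 0), (30, 0), (0, 31), (32, 31),
   (0, 33), (0, 33), (0, 35), (0, 35), (0, 37), (0, 36), (0, 39), (0, 39), (0, 41), (0, 41),
   (0, 43), (0, 43), (0, 45), (0, 44), (15, 0), (0, 0), (0, 0), (48, 46), (0, 48), (0, 47),
   (39, 0), (2, 0), (51, 0), (51, 0), (48, 0), (8, 43), (1, 0), (10, 0), (0, 0), (0, 0),
   (2, 0), (49, 0), (56, 61), (64, 65), (65, 0), (66, 0), (65, 0), (68, 0), (57, 0), (6, 0),
   (59, 0), (74, 0), (73, 75), (76, 0), (75, 0), (78, 0), (77, 0), (80, 0), (80, 0), (82, 0),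
   (81, 0), (84, 0), (83, 0), (86, 0), (85, 0), (88, 0), (88, 0), (87, 64), (71, 0), (0, 90),
   (0, 0), (0, 1), (0, 95), (96, 0), (7, 0), (0, 0), (0, 0), (25, 0), (99, 100), (0, 101),
   (0, 102), (0, 99), (0, 104), (0, 97), (102, 93), (1, 0), (0, 100), (0, 110), (10, 0), (0, 12),
   (0, 38), (49, 0), (0, 1), (111, 102), (0, 112), (0, 114), (0, 116), (0, 119), (0, 112), (113, 118),
   (119, 0), (119, 0), (122, 0), (124, 0), (113, 0), (78, 6), (1, 0), (80, 0), (0, 0), (10, 0),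
   (17, 0), (68, 82), (130, 0), (132, 0), (132, 0), (136, 0), (0, 39), (133, 32), (0, 137), (0, 137),
   (0, 139), (0, 143), (5, 0), (0, 46), (0, 0), (0, 0), (0, 2), (0, 11), (150, 142), (100, 0),
   (149, 0), (153, 0), (154, 0), (153, 0), (148, 0), (106, 0), (155, 0), (0, 60), (147, 159), (0, 155),
   (0, 158), (0, 162), (0, 163), (0, 163), (0, 153), (0, 161), (0, 164), (9, 0), (0, 71), (0, 0),
   (0, 0), (0, 2), (0, 15), (126, 31), (38, 0), (128, 0), (0, 0), (0, 0), (2, 0), (37, 0),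
   (7, 0), (51, 0), (34, 0), (52, 0), (182, 79), (0, 184), (0, 180), (0, 187), (190, 159), (0, 190),
   (193, 0), (0, 194), (194, 0), (0, 194), (196, 0), (0, 196), (199, 0), (0, 200), (200, 0), (0, 200),
   (202, 0), (0, 202), (205, 0), (0, 206), (206, 0), (0, 206), (209, 0), (0, 210), (210, 0), (0, 210),
   (212, 0), (0, 212), (215, 0), (0, 216), (216, 0), (0, 216), (219, 0), (0, 220), (220, 0), (0, 220),
   (223, 0), (0, 224), (224, 0), (0, 224), (227, 0), (0, 228), (229, 228), (0, 230), (0, 230), (0, 232),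
   (0, 232), (0, 234), (0, 233), (0, 236), (0, 236), (0, 238), (0, 238), (0, 240), (0, 240), (0, 242),
   (0, 241), (15, 0), (0, 0), (0, 0), (56, 0), (182, 244), (244, 0), (236, 0), (248, 0), (4, 0),
   (0, 203), (0, 0), (0, 0), (2, 0), (0, 66), (71, 0)]

/-- program for the element (4, 12) -/
def prog25 : List (ℕ × ℕ) :=
  [(3, 2), (3, 1), (1, 0), (6, 0), (0, 3), (0, 2), (0, 3), (0, 4), (0, 9), (8, 11),
   (10, 0), (2, 0), (0, 13), (0, 15), (0, 3), (0, 13), (19, 17), (0, 0), (0, 0), (21, 0),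
   (23, 0), (0, 21), (24, 25), (0, 0), (0, 0), (0, 26), (0, 29), (5, 0), (30, 0), (0, 0),
   (1, 0), (34, 0), (0, 35), (35, 0), (0, 35), (38, 37), (0, 39), (0, 39), (0, 41), (0, 40),
   (0, 43), (0, 43), (0, 45), (0, 44), (0, 47), (0, 46), (0, 49), (0, 49), (0, 51), (0, 51),
   (0, 53), (0, 52), (0, 55), (0, 55), (0, 57), (0, 56), (0, 59), (0, 58), (23, 0), (0, 0),
   (60, 61), (62, 64), (63, 0), (0, 63), (3, 2), (0, 68), (4, 0), (2, 0), (3, 0), (4, 0),
   (72, 0), (7, 0), (74, 0), (74, 0), (10, 0), (14, 0), (16, 60), (1, 0), (18, 0), (0, 0),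
   (1, 0), (1, 1), (1, 0), (1, 1), (1, 0), (69, 0), (83, 88), (0, 84), (0, 91), (0, 92),
   (0, 79), (0, 80), (0, 91), (0, 90), (95, 29), (30, 0), (99, 0), (100, 0), (34, 0), (35, 0),
   (38, 0), (36, 0), (42, 8), (1, 0), (44, 0), (0, 0), (1, 0), (1, 1), (1, 0), (1, 1),
   (1, 0), (17, 0), (26, 0), (110, 116), (0, 115), (0, 116), (0, 119), (0, 106), (0, 57), (0, 108),
   (123, 55), (123, 0), (124, 0), (126, 0), (60, 0), (123, 0), (62, 0), (67, 7), (1, 0), (69, 0),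
   (0, 0), (0, 0), (2, 0), (1, 1), (0, 0), (2, 0), (16, 0), (0, 25), (25, 0), (137, 142),
   (0, 78), (0, 130), (145, 107), (0, 146), (146, 0), (0, 146), (149, 0), (0, 150), (150, 0), (0, 150),
   (152, 0), (0, 152), (155, 0), (0, 156), (156, 0), (0, 156), (158, 0), (0, 158), (161, 0), (0, 162),
   (162, 0), (0, 162), (164, 0), (0, 164), (167, 0), (0, 168), (168, 0), (0, 168), (170, 0), (0, 170),
   (173, 0), (0, 174), (174, 0), (0, 174), (176, 0), (0, 176), (179, 0), (0, 180), (180, 0), (0, 180),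
   (183, 0), (0, 184), (184, 0), (0, 184), (186, 0), (0, 186), (189, 188), (0, 190), (0, 190), (0, 192),
   (0, 192), (0, 194), (0, 193), (0, 196), (0, 196), (0, 198), (0, 198), (0, 200), (0, 200), (0, 202),
   (0, 201), (15, 0), (0, 0), (61, 0), (207, 143), (204, 0), (142, 0), (3, 0), (0, 148), (0, 0),
   (1, 0), (1, 1), (1, 0), (1, 1), (1, 0), (0, 73), (77, 0)]

/-- program for the element (5, 0) -/
def prog26 : List (ℕ × ℕ) :=
  [(2, 0), (4, 3), (2, 3), (4, 6), (1, 0), (4, 8), (9, 0), (9, 0), (9, 0), (4, 0),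
   (8, 0), (9, 0), (11, 0), (14, 16), (17, 0), (16, 0), (19, 0), (19, 0), (21, 0), (20, 0),
   (23, 0), (23, 0), (25, 0), (25, 0), (27, 0), (26, 0), (29, 0), (28, 0), (31, 0), (31, 0),
   (33, 0), (32, 0), (35, 0), (35, 0), (37, 0), (37, 0), (39, 37), (0, 0), (0, 0), (41, 0),
   (43, 0), (43, 44), (0, 0), (0, 0), (0, 45), (0, 48), (46, 0), (6, 0), (0, 49), (0, 0),
   (0, 1), (0, 54), (55, 0), (0, 54), (56, 0), (19, 0), (0, 0), (44, 0), (61, 55), (0, 62),
   (0, 61), (0, 63), (60, 61), (1, 0), (0, 60), (0, 61), (0, 63), (9, 0), (0, 11), (0, 0),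
   (0, 0), (0, 0), (2, 3), (1, 0), (0, 61), (12, 78), (0, 77), (0, 78), (0, 81), (77, 81),
   (80, 0), (2, 0), (0, 79), (0, 2), (43, 84), (0, 39), (88, 0), (0, 0), (1, 0), (92, 0),
   (0, 93), (93, 0), (0, 93), (96, 95), (0, 97), (0, 97), (0, 99), (0, 98), (0, 101), (0, 101),
   (0, 103), (0, 102), (0, 105), (0, 104), (0, 107), (0, 107), (0, 109), (0, 109), (0, 111), (0, 110),
   (0, 113), (0, 113), (0, 115), (0, 114), (0, 117), (0, 116), (23, 0), (0, 0), (119, 114), (0, 119),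
   (123, 115), (123, 0), (124, 0), (126, 0), (4, 0), (124, 0), (6, 0), (9, 43), (1, 0), (11, 0),
   (0, 0), (0, 0), (2, 0), (1, 1), (0, 0), (2, 0), (52, 0), (62, 0), (75, 137), (0, 140),
   (0, 136), (0, 60), (0, 142), (0, 146), (0, 142), (0, 148), (143, 141), (149, 0), (146, 0), (29, 0),
   (150, 0), (154, 0), (148, 0), (156, 0), (36, 8), (1, 0), (38, 0), (0, 0), (0, 0), (2, 0),
   (1, 1), (0, 0), (2, 0), (17, 0), (46, 97), (152, 0), (48, 0), (0, 0), (1, 0), (1, 1),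
   (0, 0), (2, 0), (105, 0), (9, 0), (36, 0), (173, 94), (0, 173), (0, 179), (0, 115), (0, 180),
   (0, 179), (0, 179), (185, 184), (0, 186), (0, 185), (0, 188), (0, 188), (0, 190), (0, 189), (0, 192),
   (0, 192), (0, 194), (0, 193), (0, 0), (12, 0), (75, 191), (195, 0), (198, 0), (193, 0), (201, 0),
   (197, 0), (197, 0), (7, 0), (0, 85), (0, 0), (0, 0), (0, 0), (0, 0), (0, 26), (34, 0)]

/-- program for the element (5, 1) -/
def prog27 : List (ℕ × ℕ) :=
  [(1, 3), (1, 2), (0, 1), (6, 5), (5, 3), (0, 5), (4, 0), (3, 0), (5, 0), (11, 0),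
   (9, 0), (13, 0), (12, 0), (14, 16), (17, 0), (16, 0), (19, 0), (19, 0), (21, 0), (20, 0),
   (23, 0), (23, 0), (25, 0), (25, 0), (27, 0), (26, 0), (29, 0), (28, 0), (31, 0), (31, 0),
   (33, 0), (32, 0), (35, 0), (35, 0), (37, 0), (37, 0), (39, 37), (0, 0), (0, 0), (41, 0),
   (43, 0), (43, 44), (0, 0), (0, 0), (0, 45), (0, 48), (46, 0), (6, 0), (0, 49), (0, 0),
   (0, 1), (15, 0), (0, 0), (40, 0), (50, 56), (55, 0), (58, 56), (1, 0), (0, 57), (55, 2),
   (1, 0), (0, 62), (0, 58), (0, 64), (0, 64), (11, 0), (0, 13), (0, 0), (0, 55), (63, 63),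
   (70, 0), (70, 0), (72, 0), (73, 0), (74, 0), (72, 0), (76, 0), (80, 0), (81, 0), (0, 26),
   (24, 24), (0, 81), (0, 78), (0, 83), (0, 84), (0, 85), (0, 26), (0, 87), (0, 91), (0, 92),
   (10, 0), (0, 38), (0, 0), (0, 0), (0, 2), (0, 16), (27, 0), (37, 99), (0, 41), (0, 43),
   (0, 44), (0, 99), (61, 102), (0, 57), (106, 0), (0, 0), (1, 0), (110, 109), (0, 111), (0, 111),
   (0, 113), (0, 112), (0, 115), (0, 115), (0, 117), (0, 116), (0, 119), (0, 118), (0, 121), (0, 121),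
   (0, 123), (0, 123), (0, 125), (0, 124), (0, 127), (0, 127), (0, 129), (0, 128), (0, 131), (0, 130),
   (23, 0), (0, 0), (133, 129), (131, 0), (128, 0), (129, 0), (79, 0), (5, 35), (1, 0), (7, 0),
   (0, 0), (0, 0), (2, 0), (41, 0), (47, 0), (141, 88), (89, 0), (147, 0), (146, 0), (143, 0),
   (0, 97), (149, 150), (0, 150), (0, 153), (0, 97), (0, 99), (5, 0), (0, 104), (0, 0), (0, 0),
   (0, 2), (0, 11), (18, 0), (94, 0), (19, 0), (109, 166), (0, 166), (0, 110), (0, 112), (0, 171),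
   (173, 172), (0, 174), (0, 173), (0, 176), (0, 176), (0, 178), (0, 177), (0, 180), (0, 180), (0, 182),
   (0, 181), (74, 0), (0, 0), (13, 0), (186, 178), (185, 0), (184, 0), (181, 0), (189, 0), (5, 0),
   (0, 58), (0, 0), (0, 0), (2, 0), (0, 24), (30, 0)]

/-- program for the element (5, 4) -/
def prog28 : List (ℕ × ℕ) :=
  [(3, 2), (3, 4), (1, 0), (5, 0), (4, 0), (6, 0), (9, 0), (6, 0), (9, 11), (12, 0),
   (11, 0), (14, 0), (13, 0), (16, 0), (16, 0), (18, 0), (17, 0), (20, 0), (19, 0), (22, 0),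
   (21, 0), (24, 0), (24, 0), (26, 24), (0, 0), (0, 0), (28, 0), (30, 0), (30, 31), (0, 0),
   (0, 0), (0, 32), (0, 35), (33, 0), (6, 0), (0, 36), (0, 0), (0, 1), (0, 41), (42, 0),
   (0, 41), (43, 0), (0, 43), (45, 0), (21, 0), (0, 0), (0, 0), (39, 0), (51, 49), (50, 52),
   (1, 0), (0, 52), (0, 52), (0, 55), (0, 57), (0, 5), (8, 0), (0, 10), (0, 50), (59, 60),
   (0, 10), (64, 1), (62, 0), (3, 0), (63, 0), (65, 0), (68, 0), (6, 0), (70, 0), (0, 22),
   (72, 70), (0, 74), (0, 72), (0, 2), (0, 24), (0, 75), (0, 77), (76, 6), (1, 0), (0, 80),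
   (10, 0), (0, 34), (0, 0), (0, 0), (0, 2), (0, 16), (27, 0), (88, 37), (0, 88), (29, 89),
   (19, 0), (92, 0), (92, 0), (92, 0), (44, 0), (94, 0), (7, 0), (97, 0), (101, 0), (101, 0),
   (0, 53), (101, 30), (0, 42), (0, 105), (0, 104), (0, 55), (0, 105), (0, 57), (107, 110), (109, 0),
   (2, 0), (0, 111), (0, 115), (0, 114), (13, 0), (0, 68), (0, 0), (0, 0), (0, 2), (0, 19),
   (33, 0), (0, 35), (72, 122), (0, 126), (0, 125), (0, 65), (0, 16), (0, 128), (0, 129), (0, 69),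
   (102, 130), (0, 98), (134, 0), (0, 0), (1, 0), (138, 0), (0, 139), (139, 0), (0, 139), (141, 0),
   (0, 141), (144, 143), (0, 145), (0, 145), (0, 147), (0, 147), (0, 149), (0, 148), (0, 151), (0, 151),
   (0, 153), (0, 153), (0, 155), (0, 155), (0, 157), (0, 156), (15, 0), (0, 0), (0, 0), (159, 158),
   (163, 0), (163, 0), (91, 0), (74, 0), (166, 0), (167, 0), (95, 0), (8, 37), (1, 0), (10, 0),
   (0, 0), (41, 0), (13, 116), (165, 0), (15, 0), (119, 0), (17, 96), (108, 0), (19, 0), (0, 0),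
   (0, 0), (2, 0), (102, 0), (0, 0), (8, 0), (13, 0), (64, 0), (188, 137), (0, 188), (0, 111),
   (0, 192), (0, 141), (0, 121), (196, 195), (0, 197), (0, 196), (0, 199), (0, 199), (0, 201), (0, 200),
   (0, 203), (0, 203), (0, 205), (0, 204), (63, 0), (0, 0), (0, 0), (14, 0), (207, 210), (209, 0),
   (149, 0), (212, 0), (211, 0), (153, 0), (6, 0), (0, 56), (0, 0), (0, 0), (2, 0), (0, 26),
   (33, 0)]

/-- program for the element (5, 5) -/
def prog29 : List (ℕ × ℕ) :=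
  [(2, 0), (2, 4), (3, 0), (0, 3), (7, 6), (5, 0), (9, 0), (9, 0), (7, 0), (5, 0),
   (12, 0), (13, 0), (11, 0), (14, 16), (17, 0), (16, 0), (19, 0), (18, 0), (21, 0), (21, 0),
   (23, 0), (22, 0), (25, 0), (24, 0), (27, 0), (26, 0), (29, 0), (29, 0), (31, 29), (0, 0),
   (0, 0), (33, 0), (35, 0), (35, 36), (0, 0), (0, 0), (0, 37), (0, 40), (38, 0), (6, 0),
   (0, 41), (0, 0), (0, 1), (0, 46), (47, 0), (0, 46), (48, 0), (0, 48), (50, 0), (21, 0),
   (0, 0), (0, 0), (39, 0), (51, 53), (0, 57), (0, 56), (56, 57), (1, 0), (53, 60), (59, 0),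
   (2, 0), (0, 62), (0, 63), (0, 6), (11, 0), (0, 13), (0, 0), (0, 54), (68, 67), (0, 12),
   (0, 72), (0, 71), (0, 70), (0, 68), (0, 72), (0, 15), (0, 76), (0, 80), (0, 79), (46, 79),
   (0, 42), (83, 0), (0, 0), (1, 0), (87, 0), (0, 88), (88, 0), (0, 88), (90, 0), (0, 90),
   (93, 92), (0, 94), (0, 94), (0, 96), (0, 96), (0, 98), (0, 97), (0, 100), (0, 100), (0, 102),
   (0, 102), (0, 104), (0, 104), (0, 106), (0, 105), (15, 0), (0, 0), (0, 0), (51, 108), (108, 0),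
   (111, 0), (111, 0), (107, 0), (111, 0), (109, 0), (111, 0), (116, 0), (120, 0), (120, 0), (11, 40),
   (1, 0), (13, 0), (0, 0), (0, 0), (2, 0), (46, 0), (58, 0), (70, 125), (0, 131), (131, 0),
   (128, 0), (3, 0), (75, 0), (129, 0), (134, 0), (133, 0), (137, 0), (0, 85), (133, 137), (142, 0),
   (0, 141), (0, 136), (0, 3), (0, 142), (0, 84), (0, 145), (0, 141), (0, 149), (10, 0), (0, 97),
   (0, 13), (24, 0), (0, 84), (152, 96), (155, 0), (98, 0), (151, 0), (155, 0), (30, 0), (162, 0),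
   (158, 0), (104, 0), (158, 0), (163, 0), (0, 112), (164, 108), (0, 168), (0, 166), (0, 166), (0, 164),
   (0, 31), (0, 174), (0, 167), (0, 172), (0, 114), (0, 175), (11, 0), (0, 125), (0, 0), (0, 0),
   (0, 2), (0, 17), (74, 118), (170, 0), (76, 0), (0, 0), (122, 0), (61, 0), (6, 0), (63, 0),
   (37, 0), (189, 194), (0, 132), (0, 193), (0, 196), (198, 105), (0, 199), (199, 0), (0, 199), (201, 0),
   (0, 201), (204, 0), (0, 205), (205, 0), (0, 205), (207, 0), (0, 207), (210, 0), (0, 211), (211, 0),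
   (0, 211), (214, 0), (0, 215), (215, 0), (0, 215), (218, 0), (0, 219), (219, 0), (0, 219), (222, 0),
   (0, 223), (223, 0), (0, 223), (226, 0), (0, 227), (227, 0), (0, 227), (229, 0), (0, 229), (232, 0),
   (0, 233), (234, 233), (0, 235), (0, 234), (0, 237), (0, 237), (0, 239), (0, 238), (0, 241), (0, 241),
   (0, 243), (0, 242), (11, 0), (0, 0), (0, 0), (50, 0), (249, 241), (243, 0), (248, 0), (250, 0),
   (4, 0), (0, 143), (0, 0), (0, 0), (2, 0), (0, 60), (65, 0)]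

/-- program for the element (6, 0) -/
def prog30 : List (ℕ × ℕ) :=
  [(0, 1), (2, 4), (1, 0), (6, 5), (7, 3), (5, 0), (5, 0), (3, 0), (8, 0), (11, 0),
   (7, 0), (13, 0), (13, 15), (16, 0), (15, 0), (18, 0), (17, 0), (20, 0), (20, 0), (22, 0),
   (21, 0), (24, 0), (23, 0), (26, 0), (25, 0), (28, 0), (28, 0), (30, 28), (0, 0), (0, 0),
   (32, 0), (34, 0), (34, 35), (0, 0), (0, 0), (0, 36), (0, 39), (37, 0), (6, 0), (0, 40),
   (0, 0), (0, 1), (0, 45), (46, 0), (0, 45), (47, 0), (0, 47), (49, 0), (21, 0), (0, 0),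
   (0, 0), (39, 0), (54, 52), (0, 56), (0, 54), (0, 2), (0, 54), (0, 57), (0, 59), (55, 6),
   (1, 0), (0, 62), (10, 0), (0, 12), (0, 0), (0, 0), (0, 2), (0, 55), (69, 66), (0, 69),
   (69, 70), (18, 0), (73, 0), (73, 0), (70, 0), (73, 0), (72, 0), (7, 0), (78, 0), (82, 0),
   (82, 0), (0, 30), (82, 29), (0, 82), (0, 86), (0, 85), (0, 84), (0, 83), (0, 86), (85, 91),
   (90, 0), (2, 0), (0, 92), (0, 96), (0, 95), (13, 0), (0, 45), (0, 0), (0, 0), (0, 2),
   (0, 19), (33, 0), (102, 98), (106, 0), (106, 0), (52, 0), (36, 0), (109, 0), (110, 0), (56, 0),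
   (0, 59), (109, 111), (0, 115), (0, 114), (0, 113), (0, 24), (0, 117), (0, 118), (0, 117), (8, 0),
   (0, 69), (0, 0), (0, 12), (21, 0), (71, 123), (126, 0), (125, 0), (123, 0), (126, 0), (126, 0),
   (133, 0), (129, 0), (131, 0), (63, 0), (134, 0), (0, 84), (83, 135), (0, 139), (0, 85), (0, 137),
   (0, 136), (0, 81), (0, 145), (0, 139), (0, 91), (0, 54), (0, 146), (11, 0), (0, 97), (0, 0),
   (0, 0), (0, 2), (0, 17), (29, 0), (151, 157), (157, 0), (154, 0), (154, 0), (157, 0), (89, 0),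
   (160, 0), (159, 0), (163, 0), (0, 112), (167, 104), (0, 166), (0, 162), (0, 107), (0, 115), (0, 78),
   (0, 170), (0, 167), (0, 174), (9, 0), (0, 123), (0, 12), (144, 176), (0, 140), (180, 0), (0, 0),
   (1, 0), (184, 0), (0, 185), (185, 0), (0, 185), (187, 0), (0, 187), (190, 189), (0, 191), (0, 191),
   (0, 193), (0, 193), (0, 195), (0, 194), (0, 197), (0, 197), (0, 199), (0, 199), (0, 201), (0, 201),
   (0, 203), (0, 202), (15, 0), (0, 0), (0, 0), (0, 58), (71, 0), (2, 0), (0, 0), (0, 0),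
   (2, 0), (64, 0), (0, 144), (90, 0), (38, 0), (61, 0), (163, 219), (0, 218), (0, 158), (0, 215),
   (0, 216), (224, 223), (0, 225), (0, 225), (0, 227), (0, 227), (0, 229), (0, 228), (0, 0), (0, 0),
   (9, 0), (234, 230), (234, 0), (230, 0), (232, 0), (233, 0), (5, 0), (0, 32), (0, 0), (0, 0),
   (2, 0), (0, 20), (26, 0)]

/-- program for the element (6, 8) -/
def prog32 : List (ℕ × ℕ) :=
  [(3, 2), (1, 2), (3, 5), (1, 0), (6, 4), (6, 2), (0, 6), (7, 4), (1, 0), (2, 0),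
   (13, 0), (10, 0), (14, 0), (8, 0), (15, 0), (11, 0), (15, 0), (20, 0), (19, 21), (22, 0),
   (21, 0), (24, 0), (24, 0), (26, 0), (25, 0), (28, 0), (28, 0), (30, 0), (30, 0), (32, 30),
   (0, 0), (0, 0), (34, 0), (36, 0), (36, 37), (0, 0), (0, 0), (0, 38), (0, 41), (39, 0),
   (6, 0), (0, 42), (0, 0), (0, 1), (0, 47), (48, 0), (0, 47), (49, 0), (19, 0), (0, 0),
   (0, 0), (33, 0), (51, 52), (52, 55), (54, 0), (2, 0), (0, 1), (0, 60), (0, 55), (0, 60),
   (0, 58), (0, 63), (61, 57), (1, 0), (0, 61), (0, 68), (14, 0), (0, 16), (0, 0), (0, 0),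
   (0, 2), (0, 53), (69, 73), (0, 10), (0, 69), (0, 77), (0, 78), (0, 80), (0, 79), (0, 24),
   (46, 80), (0, 42), (84, 0), (0, 0), (1, 0), (88, 0), (0, 89), (89, 0), (0, 89), (92, 91),
   (0, 93), (0, 93), (0, 95), (0, 94), (0, 97), (0, 97), (0, 99), (0, 98), (0, 101), (0, 100),
   (11, 0), (0, 0), (0, 0), (105, 102), (100, 0), (103, 0), (107, 0), (108, 0), (111, 0), (111, 0),
   (103, 0), (8, 31), (1, 0), (10, 0), (0, 0), (0, 0), (2, 0), (37, 0), (46, 0), (115, 116),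
   (123, 0), (119, 0), (120, 0), (120, 0), (125, 0), (125, 0), (123, 0), (0, 76), (127, 65), (0, 132),
   (0, 125), (0, 126), (0, 131), (0, 135), (0, 134), (0, 134), (8, 0), (0, 86), (0, 0), (0, 0),
   (0, 2), (0, 14), (23, 0), (0, 71), (147, 144), (0, 146), (0, 148), (0, 142), (0, 149), (0, 148),
   (0, 87), (0, 96), (0, 155), (0, 148), (0, 156), (155, 158), (158, 0), (158, 0), (156, 0), (161, 0),
   (157, 0), (157, 0), (155, 0), (166, 0), (162, 0), (166, 0), (63, 11), (1, 0), (65, 0), (0, 0),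
   (0, 0), (2, 0), (17, 0), (0, 101), (32, 0), (57, 0), (32, 0), (179, 177), (0, 180), (0, 174),
   (0, 177), (0, 118), (0, 183), (0, 185), (186, 95), (0, 186), (189, 0), (0, 190), (191, 190), (0, 192),
   (0, 192), (0, 194), (0, 194), (0, 196), (0, 195), (7, 0), (0, 0), (0, 0), (14, 0), (199, 200),
   (201, 0), (199, 0), (201, 0), (199, 0), (206, 0), (206, 0), (7, 0), (0, 104), (0, 0), (0, 0),
   (2, 0), (0, 27), (35, 0)]

/-- program for the element (6, 10) -/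
def prog33 : List (ℕ × ℕ) :=
  [(1, 3), (2, 0), (0, 1), (0, 2), (0, 6), (8, 7), (1, 0), (1, 9), (8, 0), (2, 0),
   (0, 4), (0, 13), (0, 12), (16, 14), (0, 0), (0, 0), (18, 0), (20, 0), (0, 18), (21, 22),
   (0, 0), (0, 0), (0, 23), (0, 26), (5, 0), (27, 0), (0, 0), (1, 0), (31, 0), (0, 32),
   (33, 32), (0, 34), (0, 34), (0, 36), (0, 36), (0, 38), (0, 37), (7, 0), (0, 0), (0, 0),
   (0, 0), (42, 40), (0, 42), (37, 45), (38, 0), (39, 0), (47, 0), (46, 0), (5, 0), (48, 0),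
   (51, 0), (51, 0), (11, 39), (1, 0), (13, 0), (0, 0), (0, 0), (2, 0), (45, 0), (59, 60),
   (0, 59), (63, 61), (19, 0), (20, 0), (21, 0), (22, 0), (60, 0), (69, 0), (69, 0), (8, 0),
   (72, 0), (72, 74), (75, 0), (74, 0), (77, 0), (76, 0), (79, 0), (79, 0), (78, 54), (61, 0),
   (0, 81), (0, 0), (0, 1), (0, 86), (87, 0), (7, 0), (0, 0), (0, 0), (0, 0), (18, 0),
   (30, 81), (0, 82), (0, 83), (0, 84), (0, 93), (0, 96), (0, 98), (91, 35), (1, 0), (0, 100),
   (10, 0), (0, 12), (0, 0), (0, 0), (0, 2), (0, 34), (47, 0), (98, 101), (0, 102), (0, 112),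
   (0, 48), (0, 110), (0, 14), (0, 113), (0, 54), (0, 55), (0, 115), (0, 116), (117, 75), (118, 0),
   (123, 0), (61, 0), (116, 0), (62, 0), (124, 0), (63, 0), (64, 0), (121, 0), (122, 0), (88, 11),
   (1, 0), (90, 0), (0, 0), (0, 0), (2, 0), (17, 0), (29, 0), (77, 137), (0, 132), (0, 138),
   (0, 78), (0, 132), (142, 80), (142, 0), (138, 0), (85, 0), (103, 0), (106, 5), (1, 0), (108, 0),
   (0, 0), (0, 0), (2, 0), (11, 0), (17, 0), (157, 155), (113, 0), (158, 0), (157, 0), (98, 0),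
   (0, 71), (161, 162), (0, 153), (0, 165), (0, 158), (0, 67), (5, 0), (0, 78), (0, 0), (0, 0),
   (0, 2), (0, 11), (172, 166), (172, 0), (176, 0), (114, 0), (178, 0), (117, 0), (181, 0), (0, 90),
   (179, 180), (0, 175), (0, 183), (0, 85), (0, 185), (0, 123), (0, 189), (7, 0), (0, 99), (0, 0),
   (0, 11), (139, 102), (0, 179), (0, 104), (0, 0), (0, 0), (0, 2), (0, 145), (0, 92), (8, 0),
   (28, 0), (46, 0)]

/-- source, target among the nine, program -/
def fuseL : List ((ℕ × ℕ) × ℕ × List (ℕ × ℕ)) :=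
  [((1, 0), 0, prog3), ((1, 3), 1, prog5),
   ((2, 0), 1, prog8), ((2, 1), 2, prog9),
   ((2, 32), 3, prog10), ((2, 1056), 0, prog11),
   ((3, 0), 3, prog12), ((3, 1), 4, prog13),
   ((3, 3), 2, prog14), ((4, 0), 2, prog16),
   ((4, 1), 2, prog17), ((4, 3), 6, prog19),
   ((4, 5), 7, prog21), ((4, 8), 7, prog22),
   ((4, 10), 6, prog23), ((4, 11), 6, prog24),
   ((4, 12), 4, prog25), ((5, 0), 4, prog26),
   ((5, 1), 2, prog27), ((5, 4), 7, prog28),
   ((5, 5), 7, prog29), ((6, 0), 7, prog30),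
   ((6, 8), 5, prog32), ((6, 10), 8, prog33)]

end Cfsg.Agent.H99.J4Classes
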