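import Cfsg.Agent.H99.J4Classes.Elt
import Cfsg.Agent.H99.J4Classes.Data
import Cfsg.Agent.H99.J4Classes.FusData

/-!
The listed elements are conjugate in presented J4 to nine of them: straight line programs.
-/

set_option autoImplicit false
set_option maxRecDepth 100000

namespace Cfsg.Agent.H99.J4Classes

open Cfsg Cfsg.Agent.H45 Cfsg.Agent.H46.J4Out

/-- run a program on matrices; entries are counted from the newest -/
noncomputable def runN : List (ℕ × ℕ) → List ℕ → (List ℕ → Bool) → Bool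
  | [], l, k => k l
  | (i, j) :: p, l, k =>
    force (J4Mat.mulN 112 (l.getD i (J4Mat.oneN 112 112)) (l.getD j (J4Mat.oneN 112 112)))
      fun c => runN p (c :: l) k

theorem forall2_getD {α β : Type*} {P : α → β → Prop} {d : α} {e : β} (hd : P d e) {l : List α}
    {m : List β} (h : List.Forall₂ P l m) : ∀ i, P (l.getD i d) (m.getD i e) := by
  induction h with
  | nil => intro i; rw [List.getD_nil, List.getD_nil]; exact hd
  | cons h _ ih =>
    intro i
    cases i with
    | zero => rw [List.getD_cons_zero, List.getD_cons_zero]; exact h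
    | succ i => rw [List.getD_cons_succ, List.getD_cons_succ]; exact ih i

theorem r_getD {lj : List Cfsg.Spor.J4} {ln : List ℕ} (h : List.Forall₂ R lj ln) :
    ∀ i, R (lj.getD i 1) (ln.getD i (J4Mat.oneN 112 112)) :=
  forall2_getD R_one h

theorem runN_spec {k : List ℕ → Bool} : ∀ (p : List (ℕ × ℕ)) (lj : List Cfsg.Spor.J4) (ln : List ℕ),
    List.Forall₂ R lj ln → runN p ln k = true →
      ∃ lj' ln', List.Forall₂ R lj' ln' ∧ k ln' = true
  | [], lj, ln, h, hk => ⟨lj, ln, h, hk⟩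
  | (i, j) :: p, lj, ln, h, hk => by
    rw [runN, force_eq] at hk
    exact runN_spec p (lj.getD i 1 * lj.getD j 1 :: lj) _
      (List.Forall₂.cons ((r_getD h i).mul' (r_getD h j)) h) hk

/-- element of a pair -/
noncomputable def pElt (q : ℕ × ℕ) : Cfsg.Spor.J4 := elt (repW.getD q.1 []) q.2

/-- its matrix -/
noncomputable def pEltN (q : ℕ × ℕ) : ℕ := eltN (repW.getD q.1 []) q.2

theorem r_pElt (q : ℕ × ℕ) : R (pElt q) (pEltN q) := r_elt _ _

/-- one fusion -/
noncomputable def fuseB (x : (ℕ × ℕ) × ℕ × List (ℕ × ℕ)) : Bool :=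
  runN x.2.2 [J4Rep.tN, J4Rep.yiN, J4Rep.yN, J4Rep.xN] fun l =>
    Nat.beq (J4Mat.mulN 112 (l.getD 0 (J4Mat.oneN 112 112)) (pEltN x.1))
      (J4Mat.mulN 112 (pEltN (nine.getD x.2.1 (0, 0))) (l.getD 0 (J4Mat.oneN 112 112)))

theorem fuse_ok : fuseL.all (fun x => Nat.blt x.2.1 9 && fuseB x) = true := by decide +kernel

theorem fuse_spec {x : (ℕ × ℕ) × ℕ × List (ℕ × ℕ)} (hx : x ∈ fuseL) :
    x.2.1 < 9 ∧ IsConj (pElt x.1) (pElt (nine.getD x.2.1 (0, 0))) := by
  have h := List.all_eq_true.1 fuse_ok x hx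
  rw [Bool.and_eq_true, Nat.blt_eq] at h
  obtain ⟨lj, ln, hl, he⟩ := runN_spec (k := fun l =>
      Nat.beq (J4Mat.mulN 112 (l.getD 0 (J4Mat.oneN 112 112)) (pEltN x.1))
      (J4Mat.mulN 112 (pEltN (nine.getD x.2.1 (0, 0))) (l.getD 0 (J4Mat.oneN 112 112))))
    x.2.2 [gt, gy⁻¹, gy, gx] _ (.cons R_t (.cons r_yi (.cons R_y (.cons R_x .nil)))) h.2
  refine ⟨h.1, isConj_iff.2 ⟨lj.getD 0 1, ?_⟩⟩
  rw [mul_inv_eq_iff_eq_mul]
  exact R.eq' faith ((r_getD hl 0).mul' (r_pElt _)) ((r_pElt _).mul' (r_getD hl 0))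
    (Nat.eq_of_beq_eq_true he)

/-- every listed element other than the identity is one of the nine or is fused to one -/
def coverB : Bool :=
  (List.range 7).all fun i => (repK.getD i []).all fun k =>
    (Nat.beq i 0 && Nat.beq k 0) || ((List.range 9).any fun j =>
      (nine.getD j (0, 0)).1 == i && (nine.getD j (0, 0)).2 == k) ||
      fuseL.any fun x => x.1.1 == i && x.1.2 == k

theorem cover_ok : coverB = true := by decide +kernel

/-- **Fusion**: the listed elements are conjugate to nine. -/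
theorem exists_nine {i k : ℕ} (hi : i < 7) (hk : k ∈ repK.getD i []) :
    (i = 0 ∧ k = 0) ∨ ∃ j < 9, IsConj (pElt (i, k)) (pElt (nine.getD j (0, 0))) := by
  have h := List.all_eq_true.1 (List.all_eq_true.1 cover_ok i (List.mem_range.2 hi)) k hk
  simp only [Bool.or_eq_true, Bool.and_eq_true, List.any_eq_true, List.mem_range, beq_iff_eq,
    Nat.beq_eq] at h
  rcases h with (h | ⟨j, hj, h1, h2⟩) | ⟨x, hx, h1, h2⟩
  · exact Or.inl h
  · subst h1 h2
    exact Or.inr ⟨j, hj, IsConj.refl _⟩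
  · subst h1 h2
    obtain ⟨hlt, hc⟩ := fuse_spec hx
    exact Or.inr ⟨_, hlt, hc⟩

end Cfsg.Agent.H99.J4Classes
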