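import Cfsg.Agent.H99.J4Classes.Elt
import Cfsg.Agent.H99.J4Classes.Data

/-!
For each of the seven representatives, every mask is conjugate to one of a few.
-/

set_option autoImplicit false
set_option maxRecDepth 100000

namespace Cfsg.Agent.H99.J4Classes

open Cfsg Cfsg.Agent.H45 Cfsg.Agent.H46.J4Out

/-- the moves on masks -/
def moves (i : ℕ) : List (ℕ → ℕ) :=
  ((repT.getD i []).map fun k n => n ^^^ (2 ^ k ^^^ applyAux (repM.getD i []) (2 ^ k) 11)) ++
    (repC.getD i []).map fun p n => applyAux p.2 n 11

/-- one round of the moves on a bit set -/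
def step (fs : List (ℕ → ℕ)) (S : ℕ) : ℕ :=
  (List.range 2048).foldl (fun acc n =>
    bif S.testBit n then fs.foldl (fun a f => a ||| (1 <<< f n)) acc else acc) S

/-- iterate -/
def rounds (fs : List (ℕ → ℕ)) : ℕ → ℕ → ℕ
  | S, 0 => S
  | S, k + 1 => rounds fs (step fs S) k

theorem mem_step {P : ℕ → Prop} {fs : List (ℕ → ℕ)} (hf : ∀ f ∈ fs, ∀ n, P n → P (f n)) {S : ℕ}
    (hS : ∀ n, S.testBit n = true → P n) : ∀ n, (step fs S).testBit n = true → P n := by
  unfold step
  suffices h : ∀ (L : List ℕ) (acc : ℕ), (∀ n, acc.testBit n = true → P n) →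
      ∀ n, (L.foldl (fun acc n => bif S.testBit n then fs.foldl (fun a f => a ||| (1 <<< f n)) acc
        else acc) acc).testBit n = true → P n from h _ S hS
  intro L
  induction L with
  | nil => intro acc hacc; exact hacc
  | cons m L ih =>
    intro acc hacc
    rw [List.foldl_cons]
    refine ih _ ?_
    cases hm : S.testBit m
    · rw [cond_false]; exact hacc
    · rw [cond_true]
      have hall : ∀ f ∈ fs, P (f m) := fun f hfm => hf f hfm m (hS m hm)
      clear hf ih
      induction fs generalizing acc with
      | nil => exact hacc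
      | cons f fs ih2 =>
        rw [List.foldl_cons]
        refine ih2 _ (fun n hn => ?_) (fun g hg => hall g (List.mem_cons_of_mem _ hg))
        simp only [Nat.testBit_or, Bool.or_eq_true, Nat.one_shiftLeft, Nat.testBit_two_pow,
          decide_eq_true_eq] at hn
        rcases hn with hn | rfl
        · exact hacc n hn
        · exact hall f (by simp)

theorem mem_rounds {P : ℕ → Prop} {fs : List (ℕ → ℕ)} (hf : ∀ f ∈ fs, ∀ n, P n → P (f n)) :
    ∀ (k : ℕ) {S : ℕ}, (∀ n, S.testBit n = true → P n) →
      ∀ n, (rounds fs S k).testBit n = true → P n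
  | 0, _, hS => hS
  | k + 1, _, hS => mem_rounds hf k (mem_step hf hS)

/-- the bit set of a list -/
def bitsOf (L : List ℕ) : ℕ := L.foldl (fun a k => a ||| (1 <<< k)) 0

theorem mem_bitsOf {L : List ℕ} {n : ℕ} (h : (bitsOf L).testBit n = true) : n ∈ L := by
  have key : ∀ (L : List ℕ) (a : ℕ), (L.foldl (fun a k => a ||| (1 <<< k)) a).testBit n = true →
      a.testBit n = true ∨ n ∈ L := by
    intro L
    induction L with
    | nil => intro a h; exact Or.inl h
    | cons k L ih =>
      intro a h
      rcases ih _ h with h | h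
      · simp only [Nat.testBit_or, Bool.or_eq_true, Nat.one_shiftLeft, Nat.testBit_two_pow,
          decide_eq_true_eq] at h
        rcases h with h | rfl
        · exact Or.inl h
        · exact Or.inr (by simp)
      · exact Or.inr (List.mem_cons_of_mem _ h)
  rcases key L 0 h with h | h
  · simp at h
  · exact h

/-- the certificates -/
noncomputable def movesOK : Bool :=
  (List.range 7).all fun i =>
    actB (wN (repW.getD i [])) (repM.getD i []) &&
      (repC.getD i []).all fun p => actB (wN p.1) p.2 &&
        Nat.beq (J4Mat.mulN 112 (wN p.1) (wN (repW.getD i [])))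
          (J4Mat.mulN 112 (wN (repW.getD i [])) (wN p.1))

theorem moves_ok : movesOK = true := by decide +kernel

/-- everything is reached -/
def reachOK : Bool :=
  (List.range 7).all fun i =>
    Nat.beq (rounds (moves i) (bitsOf (repK.getD i [])) (repS.getD i 0)) (2 ^ 2048 - 1)

theorem reach_ok : reachOK = true := by decide +kernel

/-- **The orbits**: each mask is conjugate to a listed one. -/
theorem exists_mask {i n : ℕ} (hi : i < 7) (hn : n < 2048) :
    ∃ k ∈ repK.getD i [], IsConj (elt (repW.getD i []) k) (elt (repW.getD i []) n) := by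
  have hm := List.all_eq_true.1 moves_ok i (List.mem_range.2 hi)
  simp only [Bool.and_eq_true, List.all_eq_true, Nat.beq_eq] at hm
  obtain ⟨hM, hC⟩ := hm
  have hr := Nat.eq_of_beq_eq_true (List.all_eq_true.1 reach_ok i (List.mem_range.2 hi))
  refine mem_rounds (P := fun n => ∃ k ∈ repK.getD i [],
    IsConj (elt (repW.getD i []) k) (elt (repW.getD i []) n)) ?_ _ ?_ n
    (by rw [hr, Nat.testBit_two_pow_sub_one, decide_eq_true hn])
  · rintro f hf m ⟨k, hk, hc⟩
    rcases List.mem_append.1 hf with hf | hf
    · obtain ⟨j, -, rfl⟩ := List.mem_map.1 hf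
      exact ⟨k, hk, hc.trans (isConj_shift hM _ m)⟩
    · obtain ⟨p, hp, rfl⟩ := List.mem_map.1 hf
      exact ⟨k, hk, hc.trans (isConj_cent (hC p hp).1 (hC p hp).2 m)⟩
  · intro m hm
    exact ⟨m, mem_bitsOf hm, IsConj.refl _⟩

end Cfsg.Agent.H99.J4Classes
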