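import Cfsg.Agent.H56.J4.Setup
import Cfsg.Agent.H85.JTen.TwoGroup
import Cfsg.Agent.H99.J4Classes.Data

/-!
Every 2-element of the group of the code on 24 points is conjugate to one of seven elements given by
words in the two generators.
-/

set_option autoImplicit false
set_option maxRecDepth 100000

namespace Cfsg.Agent.H99.J4Classes

open Cfsg Cfsg.Agent.Golay Cfsg.Agent.H94.M24 Cfsg.Agent.H56.J4

/-- the table of a representative -/
noncomputable def repT' (i : ℕ) : ℕ := wt (repW.getD i [])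

/-- each member of the Sylow list is conjugate to a representative -/
noncomputable def sylCert : Bool :=
  Nat.beq certI.length 1024 && Nat.beq certC.length 1024 &&
    ((List.range 7).all fun i => inM24 (repT' i)) &&
    (H85.JTen.tList.zip (certI.zip certC)).all fun q =>
      Nat.blt q.2.1 7 && inM24 q.2.2 && conjB q.2.2 (repT' q.2.1) q.1

theorem sylCert_ok : sylCert = true := by decide +kernel

theorem exists_conjB {t : ℕ} (ht : t ∈ H85.JTen.tList) :
    ∃ i < 7, inM24 (repT' i) = true ∧ ∃ c, inM24 c = true ∧ conjB c (repT' i) t = true := by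
  have h := sylCert_ok
  simp only [sylCert, Bool.and_eq_true, List.all_eq_true, Nat.beq_eq, Nat.blt_eq,
    List.mem_range] at h
  obtain ⟨⟨⟨h1, h2⟩, h3⟩, h4⟩ := h
  obtain ⟨n, hn, rfl⟩ := List.getElem_of_mem ht
  have hn' : n < 1024 := H85.JTen.tList_ok.2.2.2 ▸ hn
  have hm : (H85.JTen.tList[n], (certI[n]'(by omega), certC[n]'(by omega))) ∈
      H85.JTen.tList.zip (certI.zip certC) :=
    List.mem_iff_getElem.2 ⟨n, by simp [H85.JTen.tList_ok.2.2.2, h1, h2, hn'], by simp; rfl⟩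
  obtain ⟨⟨hi, hc⟩, hj⟩ := h4 _ hm
  exact ⟨_, hi, h3 _ hi, _, hc, hj⟩

/-- **Conjugacy of the 2-elements** of the group of the code to the representatives. -/
theorem exists_conj_rep {σ : M24} {k : ℕ} (hσ : σ ^ 2 ^ k = 1) :
    ∃ i < 7, ∃ τ : M24, phi (τ * σ * τ⁻¹) = ((repW.getD i []).map jl).prod := by
  have : Fact (Nat.Prime 2) := ⟨Nat.prime_two⟩
  have hU : IsPGroup 2 (Subgroup.zpowers σ⁻¹) := fun x => ⟨k, by
    obtain ⟨x, j, rfl⟩ := x
    apply Subtype.ext
    show ((σ⁻¹) ^ j) ^ 2 ^ k = 1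
    rw [← zpow_natCast, ← zpow_mul, mul_comm, zpow_mul, zpow_natCast, inv_pow, hσ, inv_one, one_zpow]⟩
  obtain ⟨g, hg⟩ := H85.JTen.exists_conj_sylT hU
  obtain ⟨t, ht, he⟩ := H85.JTen.mem_sylT.1 (hg ⟨σ⁻¹, Subgroup.mem_zpowers _, rfl⟩)
  obtain ⟨i, hi, hr, c, hc, hj⟩ := exists_conjB ht
  refine ⟨i, hi, (⟨mkPerm c, mem_M24_of_inM24 hc⟩ : M24)⁻¹ * g, ?_⟩
  have htab := H85.JTen.tab_tList ht
  have e := (conjB_iff (validT_of_inM24 hc) (validT_of_inM24 hr) htab.valid).1 hj
  have hv : Val (repT' i) := ⟨validT_of_inM24 hr, mem_M24_of_inM24 hr⟩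
  have hw := (wt_spec (repW.getD i [])).2
  rw [← hw, show wt (repW.getD i []) = repT' i from rfl, pv_eq hv]
  congr 1
  apply Subtype.ext
  have e' : (g : Equiv.Perm GolayPt) * (σ : Equiv.Perm GolayPt)⁻¹ * (g : Equiv.Perm GolayPt)⁻¹ =
      mkPerm t := by
    rw [← htab.coe, he]
    simp
  show _ = (mkPerm (repT' i))⁻¹
  simp only [Subgroup.coe_mul, Subgroup.coe_inv, mul_inv_rev, inv_inv]
  have e2 : mkPerm (repT' i) = (mkPerm c)⁻¹ * mkPerm t * mkPerm c := by rw [← e]; group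
  rw [e2, ← e']
  group

end Cfsg.Agent.H99.J4Classes
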