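import Cfsg.Agent.H99.J4Classes.Fus
import Cfsg.Agent.H99.J4Classes.RankData
import Cfsg.Agent.H45.J4Inv.Lin

/-!
The nine elements are pairwise non-conjugate: ranks of powers of the matrix plus one.
-/

set_option autoImplicit false
set_option maxRecDepth 100000

namespace Cfsg.Agent.H99.J4Classes

open Cfsg Cfsg.Agent.H45 Cfsg.Agent.H45.J4Mat Cfsg.Agent.H45.J4Rep Cfsg.Agent.H45.J4Inv
  Cfsg.Agent.H46.J4Out

/-- the number of vectors in the image of a power of the matrix plus one -/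
noncomputable def imgCard (p : ℕ) (g : Cfsg.Spor.J4) : ℕ :=
  Nat.card (Set.range fun v : Vec => Matrix.vecMul v ((((rho g : GL112) : H45.J4Inv.Mx) + 1) ^ p))

theorem imgCard_conj (p : ℕ) (g h : Cfsg.Spor.J4) : imgCard p (h * g * h⁻¹) = imgCard p g := by
  set a : GL112 := rho h
  set A : H45.J4Inv.Mx := ((rho g : GL112) : H45.J4Inv.Mx)
  have hA : ((((rho (h * g * h⁻¹) : GL112) : H45.J4Inv.Mx)) + 1) ^ p =
      (a : H45.J4Inv.Mx) * (A + 1) ^ p * ((a⁻¹ : GL112) : H45.J4Inv.Mx) := by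
    rw [map_mul, map_mul, map_inv, Units.val_mul, Units.val_mul,
      ← Units.conj_pow a (A + 1) p, mul_add, add_mul, mul_one, Units.mul_inv]
  unfold imgCard
  rw [hA]
  refine (Nat.card_eq_of_bijective (fun w : Set.range fun v : Vec => Matrix.vecMul v ((A + 1) ^ p) =>
    (⟨Matrix.vecMul w.1 ((a⁻¹ : GL112) : H45.J4Inv.Mx), ?_⟩ : Set.range fun v : Vec =>
      Matrix.vecMul v ((a : H45.J4Inv.Mx) * (A + 1) ^ p * ((a⁻¹ : GL112) : H45.J4Inv.Mx))))
    ⟨?_, ?_⟩).symm
  · obtain ⟨v, hv⟩ := w.2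
    refine ⟨Matrix.vecMul v ((a⁻¹ : GL112) : H45.J4Inv.Mx), ?_⟩
    simp only [Matrix.vecMul_vecMul, ← mul_assoc, Units.inv_mul, one_mul, ← hv]
  · intro u v e
    have e' := congrArg (fun w : Vec => Matrix.vecMul w (a : H45.J4Inv.Mx)) (Subtype.mk.inj e)
    simp only [Matrix.vecMul_vecMul, Units.inv_mul, Matrix.vecMul_one] at e'
    exact Subtype.ext e'
  · rintro ⟨_, v, rfl⟩
    refine ⟨⟨_, Matrix.vecMul v (a : H45.J4Inv.Mx), rfl⟩, Subtype.ext ?_⟩
    simp only [Matrix.vecMul_vecMul, mul_assoc]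

/-- one certificate -/
noncomputable def rankB : ℕ × ℕ × ℕ × ℕ × ℕ × ℕ × ℕ → Bool
  | (j, p, k, L, B, Rm, T) =>
    force (powN 112 (pEltN (nine.getD j (0, 0)) ^^^ oneN 112 112) p) fun M =>
      Nat.blt k 113 && Nat.beq (mulN 112 Rm M) B && Nat.beq (mulN 112 L B) M &&
        Nat.beq (mulN 112 B T) (oneN 112 k) && Nat.beq (mulN 112 L (oneN 112 k)) L

theorem rank_ok : rankL.all rankB = true := by decide +kernel

theorem imgCard_of_cert {j p k L B Rm T : ℕ} (h : (j, p, k, L, B, Rm, T) ∈ rankL) :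
    imgCard p (pElt (nine.getD j (0, 0))) = 2 ^ k := by
  have hb := List.all_eq_true.1 rank_ok _ h
  simp only [rankB, force_eq, Bool.and_eq_true, Nat.blt_eq, Nat.beq_eq] at hb
  obtain ⟨⟨⟨⟨hk, h1⟩, h2⟩, h3⟩, h4⟩ := hb
  have hr : ((rho (pElt (nine.getD j (0, 0))) : GL112) : H45.J4Inv.Mx) =
      toMat 112 (pEltN (nine.getD j (0, 0))) := r_pElt _
  unfold imgCard
  rw [hr, ← toMat_oneN 112, ← toMat_xor, ← toMat_powN]
  refine card_range (L := toMat 112 L) (B := toMat 112 B) (R := toMat 112 Rm) (T := toMat 112 T)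
    (by omega) ?_ ?_ ?_ ?_
  · rw [← toMat_mulN, h1]
  · rw [← toMat_mulN, h2]
  · rw [projM, ← toMat_mulN, h3]
  · rw [projM, ← toMat_mulN, h4]

/-- some certified power tells two classes apart -/
def apartB : Bool :=
  (List.range 9).all fun i => (List.range 9).all fun j => Nat.beq i j ||
    rankL.any fun a => rankL.any fun b => a.1 == i && b.1 == j && a.2.1 == b.2.1 && a.2.2.1 != b.2.2.1

theorem apart_ok : apartB = true := by decide +kernel

/-- **Separation**: the nine are pairwise non-conjugate. -/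
theorem nine_inj {i j : ℕ} (hi : i < 9) (hj : j < 9)
    (h : IsConj (pElt (nine.getD i (0, 0))) (pElt (nine.getD j (0, 0)))) : i = j := by
  have e := List.all_eq_true.1 (List.all_eq_true.1 apart_ok i (List.mem_range.2 hi)) j
    (List.mem_range.2 hj)
  simp only [Bool.or_eq_true, Nat.beq_eq, List.any_eq_true, Bool.and_eq_true, beq_iff_eq,
    bne_iff_ne] at e
  rcases e with e | ⟨⟨i', p, k, a1, a2, a3, a4⟩, ha, ⟨j', q, l, b1, b2, b3, b4⟩, hb, ⟨⟨h1, h2⟩, h3⟩, h4⟩
  · exact e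
  · simp only at h1 h2 h3 h4
    subst h1 h2 h3
    obtain ⟨g, hg⟩ := isConj_iff.1 h
    exfalso
    have e2 := imgCard_of_cert hb
    rw [← hg, imgCard_conj, imgCard_of_cert ha] at e2
    exact h4 (Nat.pow_right_injective le_rfl e2)

end Cfsg.Agent.H99.J4Classes
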