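import Cfsg.Agent.H99.J4Classes.Perm
import Cfsg.Agent.H99.J4Classes.Orbit
import Cfsg.Agent.H99.J4Classes.Rank
import Cfsg.Agent.H54.JFour.Classes.Count
import Cfsg.Agent.H99.J4U.Final

/-!
A simple group of Janko-four type has nine classes of nontrivial 2-elements.
-/

set_option autoImplicit false
set_option maxRecDepth 100000

namespace Cfsg.Agent.H99.J4Classes

open Cfsg Subgroup Cfsg.Agent.H54.Classes Cfsg.Agent.H46.J4Out Cfsg.Agent.H56.J4

theorem card_J4 : Nat.card Cfsg.Spor.J4 = 86775571046077562880 := S1703.card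

theorem finite_J4 : Finite Cfsg.Spor.J4 :=
  Nat.finite_of_card_ne_zero (by rw [card_J4]; norm_num)

theorem range_eq : phi.range = Subgroup.closure {gx, gy} := phi_range

theorem range_le_norm : phi.range ≤ Subgroup.normalizer (ESub : Set Cfsg.Spor.J4) := by
  have := finite_J4
  rw [range_eq, Subgroup.closure_le]
  rintro g (rfl | rfl)
  · exact Subgroup.mem_normalizer_fintype fun e he => conj_mem faith R_x H46.J4Out.Mx x_checks he
  · exact Subgroup.mem_normalizer_fintype fun e he => conj_mem faith R_y H46.J4Out.My y_checks he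

theorem hSub_eq : H46.J4Out.HSub = ESub ⊔ phi.range := by
  rw [range_eq]
  refine le_antisymm ((Subgroup.closure_le _).2 ?_) (sup_le ?_ ?_)
  · rintro g (rfl | rfl | rfl)
    · exact Subgroup.mem_sup_right (Subgroup.subset_closure (by simp))
    · exact Subgroup.mem_sup_right (Subgroup.subset_closure (by simp))
    · exact Subgroup.mem_sup_left (Subgroup.subset_closure ⟨0, rfl⟩)
  · refine (Subgroup.closure_le _).2 ?_
    rintro _ ⟨k, rfl⟩
    exact eF_mem (Subgroup.subset_closure (by simp)) (Subgroup.subset_closure (by simp))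
      (Subgroup.subset_closure (by simp)) k
  · exact Subgroup.closure_mono (by intro g hg; rcases hg with rfl | rfl <;> simp)

theorem comap_phi : ESub.comap phi = ⊥ := by
  have hfin := finite_J4
  have hs : IsSimpleGroup M24 := Golay.isSimpleGroup_M24
  have hn : (ESub.comap phi).Normal := by
    constructor
    intro n hn g
    simp only [Subgroup.mem_comap, map_mul, map_inv] at hn ⊢
    exact (Subgroup.mem_normalizer_iff.1 (range_le_norm ⟨g, rfl⟩) _).1 hn
  refine hn.eq_bot_or_eq_top.resolve_right fun h => ?_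
  have hb : phi.range ≤ ESub := by
    rintro _ ⟨g, rfl⟩
    exact Subgroup.mem_comap.1 (h ▸ Subgroup.mem_top g)
  have h1 := Subgroup.card_le_of_le hb
  rw [← Nat.card_congr (MonoidHom.ofInjective phi_injective).toEquiv, Golay.card_M24,
    H45.J4Inv.card_ESub faith] at h1
  omega

theorem exists_split {g : Cfsg.Spor.J4} (hg : g ∈ H46.J4Out.HSub) :
    ∃ (n : ℕ) (σ : M24), n < 2048 ∧ g = theta n * phi σ := by
  rw [hSub_eq, ← SetLike.mem_coe,
    Subgroup.coe_mul_of_right_le_normalizer_left _ _ range_le_norm] at hg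
  obtain ⟨e, he, -, ⟨σ, rfl⟩, rfl⟩ := hg
  obtain ⟨n, hn, rfl⟩ := exists_theta faith he
  exact ⟨n, σ, hn, rfl⟩

theorem pow_split (n : ℕ) (σ : M24) : ∀ m : ℕ,
    (theta n * phi σ) ^ m * (phi σ ^ m)⁻¹ ∈ ESub
  | 0 => by simp
  | m + 1 => by
    have h := (Subgroup.mem_normalizer_iff.1 (range_le_norm ⟨σ, rfl⟩) _).1 (pow_split n σ m)
    have e : (theta n * phi σ) ^ (m + 1) * (phi σ ^ (m + 1))⁻¹ =
        theta n * (phi σ * ((theta n * phi σ) ^ m * (phi σ ^ m)⁻¹) * (phi σ)⁻¹) := by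
      rw [pow_succ', pow_succ' (phi σ), mul_inv_rev]; group
    rw [e]
    exact mul_mem (theta_mem n) h

/-- every 2-element of presented J4 is conjugate to a listed element -/
theorem exists_listed {x : Cfsg.Spor.J4} {k : ℕ} (hx : x ^ 2 ^ k = 1) :
    ∃ i < 7, ∃ m ∈ repK.getD i [], IsConj x (pElt (i, m)) := by
  have hfin := finite_J4
  have : Fact (Nat.Prime 2) := ⟨Nat.prime_two⟩
  have hU : IsPGroup 2 (Subgroup.zpowers x) := fun y => ⟨k, by
    obtain ⟨y, j, rfl⟩ := y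
    apply Subtype.ext
    show (x ^ j) ^ 2 ^ k = 1
    rw [← zpow_natCast, ← zpow_mul, mul_comm, zpow_mul, zpow_natCast, hx, one_zpow]⟩
  have hcard : ¬ 2 ∣ Nat.card (Cfsg.Spor.J4 ⧸ H46.J4Out.HSub) := by
    have h := H46.J4Out.HSub.card_mul_index
    rw [H45.J4Inv.card_HSub faith, card_J4] at h
    rw [← Subgroup.index_eq_card]
    omega
  obtain ⟨q, hq⟩ := hU.nonempty_fixed_point_of_prime_not_dvd_card _ hcard
  obtain ⟨g, rfl⟩ := QuotientGroup.mk_surjective q
  have hm : g⁻¹ * x * g ∈ H46.J4Out.HSub := by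
    have e := MulAction.mem_fixedPoints.1 hq ⟨x, Subgroup.mem_zpowers x⟩
    have e' : ((x * g : Cfsg.Spor.J4) : Cfsg.Spor.J4 ⧸ H46.J4Out.HSub) = (g : Cfsg.Spor.J4 ⧸ _) := e
    have e'' := (QuotientGroup.eq).1 e'.symm
    rwa [← mul_assoc] at e''
  obtain ⟨n, σ, hn, hσ⟩ := exists_split hm
  have hσ2 : σ ^ 2 ^ k = 1 := by
    have h := pow_split n σ (2 ^ k)
    have e : (g⁻¹ * x * g) ^ 2 ^ k = 1 := by
      have := conj_pow (i := 2 ^ k) (a := g⁻¹) (b := x)
      rw [inv_inv] at this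
      rw [this, hx]; group
    rw [← hσ, e, one_mul, inv_mem_iff, ← map_pow, ← Subgroup.mem_comap, comap_phi,
      Subgroup.mem_bot] at h
    exact h
  obtain ⟨i, hi, τ, hτ⟩ := exists_conj_rep hσ2
  have he : phi τ * theta n * (phi τ)⁻¹ ∈ ESub :=
    (Subgroup.mem_normalizer_iff.1 (range_le_norm ⟨τ, rfl⟩) _).1 (theta_mem n)
  obtain ⟨n', hn', hθ⟩ := exists_theta faith he
  obtain ⟨m, hmK, hc⟩ := exists_mask hi hn'
  refine ⟨i, hi, m, hmK, ?_⟩
  refine (isConj_iff.2 ⟨phi τ * g⁻¹, ?_⟩).trans hc.symm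
  show phi τ * g⁻¹ * x * (phi τ * g⁻¹)⁻¹ = elt _ n'
  rw [elt, ← hτ, hθ, map_mul, map_mul, map_inv]
  calc phi τ * g⁻¹ * x * (phi τ * g⁻¹)⁻¹ = phi τ * (g⁻¹ * x * g) * (phi τ)⁻¹ := by group
    _ = _ := by rw [hσ]; group

theorem pElt_zero : pElt (0, 0) = 1 := by
  show theta 0 * ((repW.getD 0 []).map jl).prod = 1
  rw [theta_zero faith, one_mul]
  rfl

/-- orders of the nine divide 16 and are not one -/
noncomputable def orderB : Bool :=
  (List.range 9).all fun j =>
    Nat.beq (H45.J4Mat.powN 112 (pEltN (nine.getD j (0, 0))) 16) (H45.J4Mat.oneN 112 112) &&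
      differs (pEltN (nine.getD j (0, 0))) (H45.J4Mat.oneN 112 112)

theorem order_ok : orderB = true := by decide +kernel

theorem isTop_iff {G : Type*} [Group G] [Finite G] {x : G} :
    IsTop 2 x ↔ x ≠ 1 ∧ ∃ k : ℕ, x ^ 2 ^ k = 1 := by
  constructor
  · rintro ⟨h1, h2⟩
    refine ⟨?_, ?_⟩
    · rintro rfl; rw [orderOf_one] at h1; omega
    · have h := Nat.eq_prime_pow_of_unique_prime_dvd (p := 2) (orderOf_pos x).ne'
        (fun {d} hd hdvd => le_antisymm (h2 d hd hdvd) hd.two_le)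
      exact ⟨_, by rw [← h]; exact pow_orderOf_eq_one x⟩
  · rintro ⟨h1, k, hk⟩
    obtain ⟨m, -, hm⟩ := (Nat.dvd_prime_pow Nat.prime_two).1 (orderOf_dvd_of_pow_eq_one hk)
    have hm0 : m ≠ 0 := fun e => h1 (orderOf_eq_one_iff.1 (by rw [hm, e, pow_zero]))
    refine ⟨hm ▸ dvd_pow_self 2 hm0, fun q hq hqd => ?_⟩
    rw [hm] at hqd
    exact ((Nat.prime_dvd_prime_iff_eq hq Nat.prime_two).1 (hq.dvd_of_dvd_pow hqd)).le

theorem isTop_nine {j : ℕ} (hj : j < 9) :
    IsTop 2 (pElt (nine.getD j (0, 0))) := by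
  have := finite_J4
  have h := List.all_eq_true.1 order_ok j (List.mem_range.2 hj)
  simp only [Bool.and_eq_true, Nat.beq_eq] at h
  exact isTop_iff.2 ⟨(r_pElt _).ne' R_one h.2,
    4, R.eq' faith ((r_pElt _).pow 16) R_one h.1⟩

/-- **Nine classes** of nontrivial 2-elements in presented J4. -/
theorem topCount_two_J4 : topCount Cfsg.Spor.J4 2 = 9 := by
  have := finite_J4
  unfold topCount
  rw [← Nat.card_fin 9]
  refine (Nat.card_eq_of_bijective (fun j : Fin 9 =>
    (⟨ConjClasses.mk (pElt (nine.getD j.1 (0, 0))), _, rfl, isTop_nine j.2⟩ :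
      {c : ConjClasses Cfsg.Spor.J4 // ∃ x, ConjClasses.mk x = c ∧ IsTop 2 x})) ⟨?_, ?_⟩).symm
  · intro a b e
    exact Fin.ext (nine_inj a.2 b.2 (ConjClasses.mk_eq_mk_iff_isConj.1 (congrArg Subtype.val e)))
  · rintro ⟨c, x, rfl, hx⟩
    obtain ⟨hne, k, hk⟩ := isTop_iff.1 hx
    obtain ⟨i, hi, m, hm, hc⟩ := exists_listed hk
    rcases exists_nine hi hm with ⟨rfl, rfl⟩ | ⟨j, hj, hj'⟩
    · rw [pElt_zero] at hc
      exact absurd (isConj_one_left.1 hc) hne
    · exact ⟨⟨j, hj⟩, Subtype.ext (ConjClasses.mk_eq_mk_iff_isConj.2 (hc.trans hj').symm)⟩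

/-- the count is invariant under isomorphism -/
theorem topCount_congr {G H : Type*} [Group G] [Group H] {p : ℕ} (e : G ≃* H) :
    topCount G p = topCount H p := by
  unfold topCount
  refine Nat.card_eq_of_bijective (fun c => ⟨ConjClasses.map e.toMonoidHom c.1, ?_⟩)
    ⟨fun a b hab => ?_, fun d => ?_⟩
  · obtain ⟨x, hx, h⟩ := c.2
    refine ⟨e x, by rw [← hx]; rfl, ?_⟩
    unfold H54.Classes.IsTop at h ⊢
    rwa [MulEquiv.orderOf_eq]
  · obtain ⟨⟨a, ha⟩, ⟨b, hb⟩⟩ := a, b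
    obtain ⟨x, rfl⟩ := ConjClasses.exists_rep a
    obtain ⟨y, rfl⟩ := ConjClasses.exists_rep b
    have := ConjClasses.mk_eq_mk_iff_isConj.1 (congrArg Subtype.val hab)
    refine Subtype.ext (ConjClasses.mk_eq_mk_iff_isConj.2 ?_)
    simpa using e.symm.toMonoidHom.map_isConj this
  · obtain ⟨d, x, rfl, hx⟩ := d
    refine ⟨⟨ConjClasses.mk (e.symm x), _, rfl, ?_⟩, Subtype.ext ?_⟩
    · unfold H54.Classes.IsTop at hx ⊢
      rwa [MulEquiv.orderOf_eq]
    · show ConjClasses.mk (e (e.symm x)) = _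
      rw [e.apply_symm_apply]

universe u

/-- **Nine classes** of nontrivial 2-elements in a simple group of Janko-four type. -/
theorem topCount_two {G : Type u} [Group G] [Finite G] [IsSimpleGroup G]
    (hG : ¬ IsMulCommutative G) (hJ : Cfsg.IsOfJankoFourType G) : topCount G 2 = 9 := by
  obtain ⟨z, hz⟩ := hJ
  obtain ⟨e⟩ := H99.J4U.isoJ4 hG hz
  rw [topCount_congr e, topCount_two_J4]

end Cfsg.Agent.H99.J4Classes
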